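import Cfsg.Agent.H72.CSy.Facts
import Cfsg.Agent.S0197

/-!
The solvable branch of the semidihedral case of S4069.
-/

set_option autoImplicit false

open Cfsg Subgroup

namespace H72.CSy

universe u

variable {G : Type u} [Group G] [Finite G]

theorem card_fibres {A B : Type*} [Group A] [Group B] (f : A →* B) (hf : Function.Surjective f)
    (p : B → Prop) : Nat.card {a : A // p (f a)} = Nat.card {b : B // p b} * Nat.card f.ker := by
  rw [← Nat.card_prod]
  refine Nat.card_congr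
    { toFun := fun a => (⟨f a.1, a.2⟩, ⟨(Function.surjInv hf (f a.1))⁻¹ * a.1, by
        rw [MonoidHom.mem_ker, map_mul, map_inv, Function.surjInv_eq hf, inv_mul_cancel]⟩)
      invFun := fun v => ⟨Function.surjInv hf v.1.1 * v.2.1, by
        rw [map_mul, Function.surjInv_eq hf, MonoidHom.mem_ker.1 v.2.2, mul_one]; exact v.1.2⟩
      left_inv := fun a => Subtype.ext (by simp)
      right_inv := ?_ }
  rintro ⟨⟨b, hb⟩, ⟨k, hk⟩⟩
  have e : f (Function.surjInv hf b * k) = b := by
    rw [map_mul, Function.surjInv_eq hf, MonoidHom.mem_ker.1 hk, mul_one]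
  refine Prod.ext (Subtype.ext e) (Subtype.ext ?_)
  show (Function.surjInv hf (f (Function.surjInv hf b * k)))⁻¹ * (Function.surjInv hf b * k) = k
  rw [e, inv_mul_cancel_left]

variable {D : H70.CSy.Setup G} (E : Pi D)

namespace Pi

include E

theorem outside_sq {g : ↥(centralizer ({D.t} : Set G))} (hK : (g : G) ∉ D.K)
    (hsq : E.mm g * E.mm g = 1) : orderOf (g : G) = 2 := by
  have hgg : (g : G) * (g : G) ∈ D.O := by
    have := (E.mm_eq_one (g * g)).1 (by rw [E.mm_mul, hsq])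
    simpa using this
  have e := E.out_inv g.2 hK hgg
  rw [← mul_assoc, mul_inv_cancel_right, eq_inv_iff_mul_eq_one, ← pow_two] at e
  refine orderOf_eq_prime ?_ fun h => hK (by rw [h]; exact one_mem _)
  rw [pow_two]
  exact pow_two_odd_eq_one (j := 1) e (D.O_odd.of_dvd_nat (Subgroup.orderOf_dvd_natCard _ hgg))

omit E in
theorem sylow_cent {q : ℕ} [Fact q.Prime] (hq2 : q ≠ 2) (P : Sylow q G) {z : G}
    (hz : z ∈ (P : Subgroup G)) (hodd : H76.CSy.OddCyclic G) :
    (P : Subgroup G) ≤ centralizer ({z} : Set G) := by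
  intro a ha
  haveI : IsCyclic (P : Subgroup G) := hodd q Fact.out hq2 P
  letI : CommGroup (P : Subgroup G) := IsCyclic.commGroup
  exact mem_centralizer_singleton_iff.2
    (congrArg Subtype.val (mul_comm (⟨a, ha⟩ : (P : Subgroup G)) ⟨z, hz⟩))

theorem three_part :
    (Nat.card G).factorization 3 = 1 + (Nat.card D.O).factorization 3 := by
  haveI : Fact (Nat.Prime 3) := ⟨Nat.prime_three⟩
  have hO0 : Nat.card D.O ≠ 0 := Nat.card_pos.ne'
  have h48 : (48 * Nat.card D.O).factorization 3 = 1 + (Nat.card D.O).factorization 3 := by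
    rw [Nat.factorization_mul (by norm_num) hO0, Finsupp.add_apply,
      show (48 : ℕ) = 2 ^ 4 * 3 by norm_num, Nat.factorization_mul (by norm_num) (by norm_num),
      Finsupp.add_apply, Nat.Prime.factorization_pow Nat.prime_two,
      Finsupp.single_eq_of_ne (by norm_num : (3 : ℕ) ≠ 2),
      Nat.Prime.factorization_self Nat.prime_three, zero_add]
  refine le_antisymm ?_ ?_
  swap
  · rw [← h48]
    refine (Nat.Prime.pow_dvd_iff_le_factorization Nat.prime_three Nat.card_pos.ne').1 ?_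
    refine (Nat.ordProj_dvd _ 3).trans ?_
    rw [← E.card_ct]
    exact card_subgroup_dvd_card _
  obtain ⟨Q⟩ : Nonempty (Sylow 3 ↥(centralizer ({D.t} : Set G))) := inferInstance
  obtain ⟨z, hzQ, hzO⟩ : ∃ z, z ∈ (Q : Subgroup ↥(centralizer ({D.t} : Set G))) ∧ (z : G) ∉ D.O := by
    by_contra hc
    simp only [not_exists, not_and, not_not] at hc
    have hle : (Q : Subgroup ↥(centralizer ({D.t} : Set G))) ≤
        D.O.subgroupOf (centralizer ({D.t} : Set G)) := fun z hz => mem_subgroupOf.2 (hc z hz)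
    have h := card_dvd_of_le hle
    rw [Q.card_eq_multiplicity, E.card_ct, h48,
      Nat.card_congr (subgroupOfEquivOfLe D.O_le).toEquiv,
      Nat.Prime.pow_dvd_iff_le_factorization Nat.prime_three hO0] at h
    omega
  obtain ⟨j, hj⟩ := Q.2 ⟨z, hzQ⟩
  have hzj : z ^ 3 ^ j = 1 := by simpa using congrArg Subtype.val hj
  have hzodd : Odd (orderOf z) :=
    Odd.of_dvd_nat ((by decide : Odd 3).pow) (orderOf_dvd_of_pow_eq_one hzj)
  have hzK : (z : G) ∈ D.K := (E.mem_K z).2 (m_three_det _ (E.orderOf_pi_odd hzodd))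
  obtain ⟨-, hcard⟩ := E.cent_h hzK (by rwa [Subgroup.orderOf_coe]) hzO
  have hzp : IsPGroup 3 (zpowers (z : G)) := by
    intro w
    obtain ⟨c, hc⟩ := mem_zpowers_iff.1 w.2
    refine ⟨j, Subtype.ext ?_⟩
    rw [SubmonoidClass.coe_pow, ← hc, ← zpow_natCast, zpow_comm, zpow_natCast,
      ← SubmonoidClass.coe_pow, hzj]
    simp
  obtain ⟨P, hP⟩ := hzp.exists_le_sylow
  have h := card_dvd_of_le (sylow_cent (by norm_num) P (hP (mem_zpowers _)) D.hyp.odd)
  rw [hcard, P.card_eq_multiplicity,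
    Nat.Prime.pow_dvd_iff_le_factorization Nat.prime_three (by omega),
    Nat.factorization_mul (by norm_num) hO0, Finsupp.add_apply,
    show (6 : ℕ) = 2 * 3 by norm_num, Nat.factorization_mul (by norm_num) (by norm_num),
    Finsupp.add_apply, Nat.factorization_eq_zero_of_not_dvd (by norm_num : ¬ 3 ∣ 2),
    Nat.Prime.factorization_self Nat.prime_three, zero_add] at h
  exact h

theorem O_ne_bot : D.O ≠ ⊥ := by
  intro hO
  haveI := D.hyp.simple
  have hinj : Function.Injective E.π := by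
    rw [injective_iff_map_eq_one]
    intro g hg
    rw [E.ker, hO, mem_bot] at hg
    exact Subtype.ext hg
  have h3 := E.three_part
  rw [hO, card_bot, Nat.factorization_one, Finsupp.coe_zero, Pi.zero_apply, add_zero] at h3
  have h9 : 3 ^ 2 ∣ Nat.card G := by
    rcases Cfsg.Agent.S0197.result D.t D.t_ord (MulEquiv.ofBijective E.π ⟨hinj, E.surj⟩) with h | h
      <;> rw [h] <;> norm_num
  have := (Nat.Prime.pow_dvd_iff_le_factorization Nat.prime_three Nat.card_pos.ne').1 h9
  omega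

theorem norm_o {o : G} (ho : o ∈ D.O) (ho1 : o ≠ 1) {g : G} (hg : g * o * g⁻¹ ∈ zpowers o) :
    g ∈ centralizer ({D.t} : Set G) := by
  obtain ⟨c, hc⟩ := mem_zpowers_iff.1 hg
  have h1 : Commute D.t (g * o * g⁻¹) := by
    rw [← hc]
    exact (show Commute D.t o from E.K_cent D.t_mem_K ho).zpow_right c
  have hmem : g⁻¹ * D.t * g ∈ centralizer ({o} : Set G) := by
    refine mem_centralizer_singleton_iff.2 ?_
    calc g⁻¹ * D.t * g * o = g⁻¹ * (D.t * (g * o * g⁻¹)) * g := by group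
      _ = g⁻¹ * ((g * o * g⁻¹) * D.t) * g := by rw [h1.eq]
      _ = o * (g⁻¹ * D.t * g) := by group
  rw [E.cent_o ho ho1] at hmem
  have h2 : g⁻¹ * D.t * g = D.t := by
    refine D.K_unique _ hmem ?_
    rw [show g⁻¹ * D.t * g = (MulAut.conj g⁻¹).toMonoidHom D.t by simp,
      orderOf_injective (MulAut.conj g⁻¹).toMonoidHom (MulAut.conj g⁻¹).injective, D.t_ord]
  refine mem_centralizer_singleton_iff.2 ?_
  nth_rewrite 1 [← h2]
  group

theorem sylow_le_O {q : ℕ} [hq : Fact q.Prime] (hq2 : q ≠ 2) (hq3 : q ≠ 3) (P : Sylow q G) {o : G}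
    (ho : o ∈ D.O) (ho1 : o ≠ 1) (hoP : o ∈ (P : Subgroup G)) : (P : Subgroup G) ≤ D.O := by
  intro a ha
  have haK : a ∈ D.K := E.cent_o ho ho1 ▸ sylow_cent hq2 P hoP D.hyp.odd ha
  obtain ⟨j, hj⟩ := P.2 ⟨a, ha⟩
  have haj : (⟨a, D.K_le haK⟩ : ↥(centralizer ({D.t} : Set G))) ^ q ^ j = 1 :=
    Subtype.ext (by simpa using congrArg Subtype.val hj)
  have h1 : orderOf (E.π ⟨a, D.K_le haK⟩) ∣ q ^ j :=
    (orderOf_map_dvd _ _).trans (orderOf_dvd_of_pow_eq_one haj)
  have h2 : orderOf (E.π ⟨a, D.K_le haK⟩) ∣ 48 := card_GL23 ▸ orderOf_dvd_natCard _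
  have hcop : (q ^ j).Coprime 48 := by
    refine Nat.Coprime.pow_left j ?_
    rw [show (48 : ℕ) = 2 ^ 4 * 3 by norm_num]
    exact Nat.Coprime.mul_right (Nat.Coprime.pow_right 4 ((Nat.coprime_primes hq.out Nat.prime_two).2 hq2))
      ((Nat.coprime_primes hq.out Nat.prime_three).2 hq3)
  exact (E.ker _).1 (orderOf_eq_one_iff.1 (Nat.eq_one_of_dvd_coprimes hcop h1 h2))

theorem exists_V : ∃ V : Subgroup ↥(centralizer ({D.t} : Set G)),
    (∀ g, g ∈ V ↔ (E.mm g).det = 1 ∧ E.mm g ^ 4 = 1) ∧ V.Normal ∧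
      Nat.card V = Nat.card D.O * 8 := by
  classical
  have hinv : ∀ g, (E.mm g).det = 1 → E.mm g ^ 4 = 1 → E.mm g⁻¹ = E.mm (g ^ 3) := by
    intro g _ h
    rw [E.mm_eq_iff, map_inv, inv_eq_iff_mul_eq_one, ← map_mul, ← pow_succ', E.ker,
      ← E.mm_eq_one, E.mm_pow, h]
  let V : Subgroup ↥(centralizer ({D.t} : Set G)) :=
    { carrier := {g | (E.mm g).det = 1 ∧ E.mm g ^ 4 = 1}
      one_mem' := by simp [mm]
      mul_mem' := fun {a b} ha hb => ⟨by rw [E.mm_mul, Matrix.det_mul, ha.1, hb.1, one_mul],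
        by rw [E.mm_mul]; exact m_q8_mul _ ha.1 ha.2 _ hb.1 hb.2⟩
      inv_mem' := fun {a} ha => by
        constructor
        · rw [hinv a ha.1 ha.2, E.mm_pow, Matrix.det_pow, ha.1, one_pow]
        · rw [hinv a ha.1 ha.2, E.mm_pow, ← pow_mul, mul_comm, pow_mul, ha.2, one_pow] }
  refine ⟨V, fun g => Iff.rfl, ⟨fun v hv g => ⟨?_, ?_⟩⟩, ?_⟩
  · rw [E.mm_mul, E.mm_mul, Matrix.det_mul, Matrix.det_mul, hv.1, mul_one, ← Matrix.det_mul,
      ← E.mm_mul, mul_inv_cancel]
    simp [mm]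
  · rw [← E.mm_pow, conj_pow, E.mm_mul, E.mm_mul, E.mm_pow, hv.2, mul_one, ← E.mm_mul,
      mul_inv_cancel]
    simp [mm]
  · rw [E.card_of_map V (fun g hg => by
      rw [MonoidHom.mem_ker, E.ker, ← E.mm_eq_one] at hg
      exact ⟨by rw [hg, Matrix.det_one], by rw [hg, one_pow]⟩)]
    congr 1
    rw [← m_q8_card, Finset.filter_congr
      (p := fun a : Matrix (Fin 2) (Fin 2) (ZMod 3) => a.det = 1 ∧ a ^ 4 = 1)
      (q := fun a => a.det ≠ 0 ∧ (a.det = 1 ∧ a ^ 4 = 1))
      (fun a _ => ⟨fun h => ⟨by rw [h.1]; decide, h⟩, fun h => h.2⟩),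
      ← card_filter (fun a => a.det = 1 ∧ a ^ 4 = 1)]
    refine Nat.card_congr (Equiv.subtypeEquivRight fun v => ⟨?_, fun hv => ?_⟩)
    · rintro ⟨g, hg, rfl⟩
      exact hg
    · obtain ⟨g, rfl⟩ := E.surj v
      exact ⟨g, hv, rfl⟩

theorem core_aux (hno : H76.CSy.SDCore G → False) : False := by
  classical
  have hn := E.n_three
  have hxo : orderOf D.x = 8 := by rw [D.qd.ordx, hn]; norm_num
  have hc8 : orderOf (D.x : G) = 8 := by rw [Subgroup.orderOf_coe, hxo]
  have hc4 : (D.x : G) ^ 4 = D.t := by rw [D.t_eq, hn]; norm_num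
  have hxK : (D.x : G) ∉ D.K := fun h => by
    have := (D.mem_K_x 1).1 (by simpa using h)
    norm_num at this
  have hx2K : (D.x : G) ^ 2 ∈ D.K := by
    have := (D.mem_K_x 2).2 dvd_rfl
    simpa [zpow_ofNat] using this
  set xc : ↥(centralizer ({D.t} : Set G)) := ⟨(D.x : G), D.S_le D.x.2⟩ with hxc
  have hm8 : E.mm xc ^ 8 = 1 := by
    rw [← E.mm_pow, E.mm_eq_one, SubmonoidClass.coe_pow]
    show (D.x : G) ^ 8 ∈ D.O
    rw [show (D.x : G) ^ 8 = 1 from orderOf_dvd_iff_pow_eq_one.1 (dvd_of_eq hc8)]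
    exact one_mem _
  have hm4 : E.mm xc ^ 4 ≠ 1 := by
    rw [← E.mm_pow]
    intro h
    refine E.exists_t_mm ?_
    rw [← h]
    congr 1
    exact Subtype.ext hc4.symm
  have hmo : orderOf (E.π xc) = 2 ^ (2 + 1) := by
    haveI : Fact (Nat.Prime 2) := ⟨Nat.prime_two⟩
    refine orderOf_eq_prime_pow (fun h => hm4 ?_) ?_
    · rw [← E.mm_pow]
      have h' : E.π (xc ^ 4) = 1 := by rw [map_pow]; exact h
      simp [mm, h']
    · rw [← map_pow, E.ker, ← E.mm_eq_one, E.mm_pow]
      exact hm8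
  -- centraliser of the square
  have hcw_le : centralizer ({(D.x : G) ^ 2} : Set G) ≤ centralizer ({D.t} : Set G) := by
    intro g hg
    rw [mem_centralizer_singleton_iff] at hg ⊢
    rw [← hc4, show (4 : ℕ) = 2 * 2 from rfl, pow_mul]
    exact ((show Commute g ((D.x : G) ^ 2) from hg).pow_right 2).eq
  have hcw_mem : ∀ g : ↥(centralizer ({D.t} : Set G)),
      (g : G) ∈ centralizer ({(D.x : G) ^ 2} : Set G) ↔ E.π g ∈ zpowers (E.π xc) := by
    intro g
    constructor
    · intro hg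
      have hgc : g * xc ^ 2 = xc ^ 2 * g :=
        Subtype.ext (by simpa using mem_centralizer_singleton_iff.1 hg)
      have hgm := congrArg E.mm hgc
      rw [E.mm_mul, E.mm_mul, E.mm_pow, pow_two] at hgm
      obtain ⟨i, hi⟩ := m_eight_cent _ hm8 hm4 _ (E.det_ne g) hgm
      rw [← E.mm_pow, E.mm_eq_iff, map_pow] at hi
      rw [hi]
      exact pow_mem (mem_zpowers _) _
    · rintro ⟨i, hi⟩
      have ho : (((xc ^ i)⁻¹ * g : ↥(centralizer ({D.t} : Set G))) : G) ∈ D.O := by
        rw [← E.ker, map_mul, map_inv, map_zpow]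
        simp only at hi
        rw [hi, inv_mul_cancel]
      have he : (g : G) = (D.x : G) ^ i * (((D.x : G) ^ i)⁻¹ * (g : G)) := by group
      rw [he, mem_centralizer_singleton_iff]
      have h1 : Commute ((D.x : G) ^ i) ((D.x : G) ^ 2) :=
        ((Commute.refl (D.x : G)).pow_right 2).zpow_left i
      have h2 : Commute (((D.x : G) ^ i)⁻¹ * (g : G)) ((D.x : G) ^ 2) :=
        (E.K_cent hx2K (by simpa using ho)).symm
      exact (h1.mul_left h2).eq
  have hcw : Nat.card (centralizer ({(D.x : G) ^ 2} : Set G)) = 8 * Nat.card D.O := by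
    rw [← Nat.card_congr (subgroupOfEquivOfLe hcw_le).toEquiv]
    have e : (centralizer ({(D.x : G) ^ 2} : Set G)).subgroupOf (centralizer ({D.t} : Set G)) =
        (zpowers (E.π xc)).comap E.π := by
      ext g
      rw [mem_subgroupOf, mem_comap, hcw_mem]
    rw [e, E.card_of_map _ (fun g hg => by
      rw [MonoidHom.mem_ker] at hg; rw [mem_comap, hg]; exact one_mem _),
      map_comap_eq_self_of_surjective E.surj, Nat.card_zpowers, hmo]
    ring
  have hcc : centralizer ({(D.x : G)} : Set G) = zpowers (D.x : G) := by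
    refine le_antisymm (fun g hg => ?_) ((zpowers_le).2 (mem_centralizer_singleton_iff.2 rfl))
    have hg' : Commute g (D.x : G) := mem_centralizer_singleton_iff.1 hg
    have hg2 : g ∈ centralizer ({(D.x : G) ^ 2} : Set G) :=
      mem_centralizer_singleton_iff.2 (hg'.pow_right 2).eq
    obtain ⟨i, hi⟩ := (hcw_mem ⟨g, hcw_le hg2⟩).1 hg2
    have ho : ((D.x : G) ^ i)⁻¹ * g ∈ D.O := by
      have : (((xc ^ i)⁻¹ * ⟨g, hcw_le hg2⟩ : ↥(centralizer ({D.t} : Set G))) : G) ∈ D.O := by
        rw [← E.ker, map_mul, map_inv, map_zpow]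
        simp only at hi
        rw [hi, inv_mul_cancel]
      simpa using this
    have hcomm : Commute (((D.x : G) ^ i)⁻¹ * g) (D.x : G) :=
      ((Commute.refl (D.x : G)).zpow_left i).inv_left.mul_left hg'
    have e := E.out_inv (D.S_le D.x.2) hxK ho
    rw [← hcomm.eq, mul_inv_cancel_right, eq_inv_iff_mul_eq_one, ← pow_two] at e
    have h1 := pow_two_odd_eq_one (j := 1) e
      (D.O_odd.of_dvd_nat (Subgroup.orderOf_dvd_natCard _ ho))
    rw [inv_mul_eq_one] at h1
    rw [← h1]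
    exact zpow_mem (mem_zpowers _) i
  -- the normal quaternion preimage
  obtain ⟨V, hV, hVn, hVc⟩ := E.exists_V
  have hOV : D.O ≤ V.map (centralizer ({D.t} : Set G)).subtype := by
    intro o ho
    refine ⟨⟨o, D.O_le ho⟩, (hV _).2 ?_, rfl⟩
    have := (E.mm_eq_one ⟨o, D.O_le ho⟩).2 ho
    rw [this]
    exact ⟨Matrix.det_one, one_pow 4⟩
  have hWn : centralizer ({D.t} : Set G) ≤
      normalizer ((V.map (centralizer ({D.t} : Set G)).subtype : Subgroup G) : Set G) := by
    intro g hg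
    refine mem_normalizer_fintype fun w hw => ?_
    obtain ⟨v, hv, rfl⟩ := mem_map.1 hw
    exact mem_map.2 ⟨⟨g, hg⟩ * v * ⟨g, hg⟩⁻¹, hVn.conj_mem v hv _, by simp⟩
  have hWi : D.O.relIndex (V.map (centralizer ({D.t} : Set G)).subtype) = 8 := by
    have h := relIndex_mul_relIndex ⊥ D.O _ bot_le hOV
    rw [relIndex_bot_left, relIndex_bot_left, card_map_of_injective (Subgroup.subtype_injective _),
      hVc] at h
    exact Nat.eq_of_mul_eq_mul_left Nat.card_pos h
  have hWs : ∀ g ∈ centralizer ({D.t} : Set G),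
      (∀ w ∈ V.map (centralizer ({D.t} : Set G)).subtype, g * w * g⁻¹ * w⁻¹ ∈ D.O) →
      g ∈ V.map (centralizer ({D.t} : Set G)).subtype := by
    intro g hg h
    refine ⟨⟨g, hg⟩, (hV _).2 (m_q8_self _ (E.det_ne _) fun b hb hb4 => ?_), rfl⟩
    obtain ⟨v, rfl⟩ := E.exists_mm (a := b) (by rw [hb]; decide)
    have h1 : (((⟨g, hg⟩ * v) * (v * ⟨g, hg⟩)⁻¹ : ↥(centralizer ({D.t} : Set G))) : G) ∈ D.O := by
      have := h _ (mem_map_of_mem _ ((hV v).2 ⟨hb, hb4⟩))
      simpa [mul_assoc] using this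
    rw [← E.ker, map_mul, map_inv, mul_inv_eq_one, ← E.mm_eq_iff, E.mm_mul, E.mm_mul] at h1
    exact h1
  -- the prime `p`
  have hO1 : Nat.card D.O ≠ 1 := fun h => E.O_ne_bot (Subgroup.card_eq_one.1 h)
  set p := (Nat.card D.O).minFac with hpdef
  have hp : p.Prime := Nat.minFac_prime hO1
  haveI := Fact.mk hp
  have hpO : p ∣ Nat.card D.O := Nat.minFac_dvd _
  have hp2 : p ≠ 2 := fun h => D.O_odd.not_two_dvd_nat (h ▸ hpO)
  obtain ⟨⟨o, hoO⟩, ho⟩ := exists_prime_orderOf_dvd_card' p hpO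
  rw [Subgroup.orderOf_mk] at ho
  have ho1 : o ≠ 1 := fun h => by
    rw [h, orderOf_one] at ho
    exact hp.one_lt.ne ho
  have hop : IsPGroup p (zpowers o) :=
    IsPGroup.of_card (n := 1) (by rw [Nat.card_zpowers, ho, pow_one])
  obtain ⟨P, hP⟩ := hop.exists_le_sylow
  have hoP : o ∈ (P : Subgroup G) := hP (mem_zpowers _)
  haveI hPc : IsCyclic (P : Subgroup G) := D.hyp.odd p hp hp2 P
  have hPK : (P : Subgroup G) ≤ D.K := fun a ha =>
    E.cent_o hoO ho1 ▸ sylow_cent hp2 P hoP D.hyp.odd ha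
  set N := normalizer ((P : Subgroup G) : Set G) with hN
  have hNC : N ≤ centralizer ({D.t} : Set G) := by
    intro g hg
    refine E.norm_o hoO ho1 ?_
    have hgo : g * o * g⁻¹ ∈ (P : Subgroup G) := (mem_normalizer_iff.1 hg o).1 hoP
    have heq := H70.CSy.cyclic_eq_of_card (zpowers (⟨g * o * g⁻¹, hgo⟩ : (P : Subgroup G)))
      (zpowers (⟨o, hoP⟩ : (P : Subgroup G))) (by
        rw [Nat.card_zpowers, Nat.card_zpowers, Subgroup.orderOf_mk, Subgroup.orderOf_mk,
          show g * o * g⁻¹ = (MulAut.conj g).toMonoidHom o from rfl,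
          orderOf_injective (MulAut.conj g).toMonoidHom (MulAut.conj g).injective])
    obtain ⟨c, hc⟩ := mem_zpowers_iff.1 (heq.le (mem_zpowers _))
    exact ⟨c, by simpa using congrArg Subtype.val hc⟩
  have hCN : centralizer ((P : Subgroup G) : Set G) = D.K ⊓ N := by
    refine le_antisymm (fun g hg => mem_inf.2 ⟨?_, centralizer_le_normalizer _ hg⟩) fun g hg => ?_
    · rw [← E.cent_o hoO ho1]
      exact mem_centralizer_singleton_iff.2 (mem_centralizer_iff.1 hg o hoP).symm
    · obtain ⟨hgK, hgN⟩ := mem_inf.1 hg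
      refine H77.mem_centralizer_of_cyclic_sylow P hoP ho1 hgN ?_
      rw [E.K_cent hgK hoO, mul_inv_cancel_right]
  have hrel : (centralizer ((P : Subgroup G) : Set G)).relIndex N = 2 := by
    rw [hCN, inf_relIndex_right]
    have hyC := D.S_le D.y.2
    have hyP : (((D.y : G) • P : Sylow p G) : Subgroup G) ≤ D.K := by
      rintro _ ⟨a, ha, rfl⟩
      exact (mem_normalizer_iff.1 (D.K_norm hyC) a).1 (hPK ha)
    obtain ⟨⟨k, hk⟩, hkeq⟩ := MulAction.exists_smul_eq ↥D.K (((D.y : G) • P).subtype hyP)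
      (P.subtype hPK)
    have hky : k * (D.y : G) ∈ N := by
      apply Sylow.smul_eq_iff_mem_normalizer.mp
      rw [mul_smul]
      exact Sylow.subtype_injective ((Sylow.smul_subtype hyP ⟨k, hk⟩).symm.trans hkeq)
    have hkyK : k * (D.y : G) ∉ D.K := fun h => y_not_mem ((mul_mem_cancel_left hk).1 h)
    have hidx : (D.K.subgroupOf (centralizer ({D.t} : Set G))).index = 2 := D.K_index
    rw [relIndex_eq_two_iff]
    refine ⟨k * (D.y : G), hky, fun b hb => ?_⟩
    have hmul := mul_mem_iff_of_index_two hidx (a := ⟨b, hNC hb⟩) (b := ⟨_, hNC hky⟩)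
    simp only [mem_subgroupOf, coe_mul] at hmul
    by_cases hbK : b ∈ D.K
    · exact Or.inr ⟨hbK, fun h => hkyK ((hmul.1 h).1 hbK)⟩
    · exact Or.inl ⟨hmul.2 ⟨fun h => absurd h hbK, fun h => absurd h hkyK⟩, hbK⟩
  -- counting the inverting involutions
  have hinv : H76.CSy.invCount G o = 12 * Nat.card D.O := by
    have h1 := card_fibres E.π E.surj
      (fun a => ((a : Matrix (Fin 2) (Fin 2) (ZMod 3))).det = 2 ∧
        (a : Matrix (Fin 2) (Fin 2) (ZMod 3)) * (a : Matrix (Fin 2) (Fin 2) (ZMod 3)) = 1)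
    rw [card_filter (fun a => a.det = 2 ∧ a * a = 1), E.card_ker,
      ← Finset.filter_congr (p := fun a : Matrix (Fin 2) (Fin 2) (ZMod 3) => a.det = 2 ∧ a * a = 1)
      (fun a _ => ⟨fun h => ⟨by rw [h.1]; decide, h⟩, fun h => h.2⟩), m_inv_card] at h1
    rw [← h1]
    symm
    refine Nat.card_congr
      { toFun := fun g => ⟨(g.1 : G), ?_, ?_⟩
        invFun := fun i => ⟨⟨i.1, ?_⟩, ?_, ?_⟩
        left_inv := fun g => rfl
        right_inv := fun i => rfl }
    · refine E.outside_sq (fun h => ?_) g.2.2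
      have := E.det_of_K _ h
      have h' : (E.mm g.1).det = 2 := g.2.1
      rw [this] at h'
      exact absurd h' (by decide)
    · refine E.out_inv g.1.2 (fun h => ?_) hoO
      have := E.det_of_K _ h
      have h' : (E.mm g.1).det = 2 := g.2.1
      rw [this] at h'
      exact absurd h' (by decide)
    · refine E.norm_o hoO ho1 ?_
      rw [i.2.2]
      exact inv_mem (mem_zpowers o)
    · refine (det_cases _ (E.det_ne _)).resolve_left fun h => ?_
      have hiK := (E.mem_K _).2 h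
      have he := i.2.2
      rw [E.K_cent hiK hoO, mul_inv_cancel_right, eq_inv_iff_mul_eq_one, ← pow_two] at he
      have := orderOf_dvd_of_pow_eq_one he
      rw [ho] at this
      exact hp2 ((Nat.prime_dvd_prime_iff_eq hp Nat.prime_two).1 this)
    · show E.mm _ * E.mm _ = 1
      rw [← E.mm_mul, E.mm_eq_one, coe_mul, ← pow_two,
        orderOf_dvd_iff_pow_eq_one.1 (dvd_of_eq i.2.1)]
      exact one_mem _
  refine hno
    { S := D.S
      qd := ⟨D.n, D.qd.three_le, D.qd.card_eq, D.x, D.y, D.qd.ordx, D.qd.ordy, D.qd.rel⟩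
      t := D.t
      t_mem := D.t_mem
      t_ord := D.t_ord
      one := D.one
      two_part := by rw [D.two_part, hn]
      O := D.O
      O_le := D.O_le
      O_norm := D.O_norm
      O_cyc := D.O_cyc
      O_ne := E.O_ne_bot
      O_odd := D.O_odd
      three_part := E.three_part
      card_ct := E.card_ct
      K := D.K
      K_le := D.K_le
      O_le_K := D.O_le_K
      card_K := E.card_K
      cent_o := fun o ho ho1 => E.cent_o ho ho1
      cent_h := fun h hh ho hO => (E.cent_h hh ho hO).2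
      c := (D.x : G)
      c_mem := D.x.2
      c_ord := hc8
      c_pow := hc4
      card_cc := by rw [hcc, Nat.card_zpowers, hc8]
      card_cw := hcw
      W := V.map (centralizer ({D.t} : Set G)).subtype
      W_le := map_subtype_le _
      O_le_W := hOV
      W_norm := hWn
      W_index := hWi
      W_self := hWs
      p := p
      hp := hp
      hpO := hpO
      P := P
      cyc := hPc
      P_le := fun h3 => E.sylow_le_O hp2 h3 P hoO ho1 hoP
      card_P3 := ?_
      relIndex_two := hrel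
      y := o
      y_mem := hoP
      y_ord := ho
      inv_count := hinv
      y_O := hoO
      part_eq := ?_
      inv_O := fun o ho => E.out_inv (D.S_le D.x.2) hxK ho
      four_conj := fun g hg => D.four g _ hg ?_
      eight_conj := ?_
      eight_two := ?_ }
  · intro h3
    rw [P.card_eq_multiplicity, h3, E.three_part]
    have : 0 < (Nat.card D.O).factorization 3 :=
      Nat.prime_three.factorization_pos_of_dvd Nat.card_pos.ne' (h3 ▸ hpO)
    calc 9 = 3 ^ 2 := by norm_num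
      _ ≤ 3 ^ (1 + (Nat.card D.O).factorization 3) := Nat.pow_le_pow_right (by norm_num) (by omega)
  · intro q hq hq3 hqO
    haveI := Fact.mk hq
    refine le_antisymm ?_ ?_
    · have hq2 : q ≠ 2 := fun h => D.O_odd.not_two_dvd_nat (h ▸ hqO)
      obtain ⟨⟨z, hzO⟩, hz⟩ := exists_prime_orderOf_dvd_card' q hqO
      rw [Subgroup.orderOf_mk] at hz
      have hz1 : z ≠ 1 := fun h => by
        rw [h, orderOf_one] at hz
        exact hq.one_lt.ne hz
      obtain ⟨R, hR⟩ := (IsPGroup.of_card (p := q) (G := zpowers z) (n := 1)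
        (by rw [Nat.card_zpowers, hz, pow_one])).exists_le_sylow
      have h := card_dvd_of_le (E.sylow_le_O hq2 hq3 R hzO hz1 (hR (mem_zpowers _)))
      rw [R.card_eq_multiplicity, hq.pow_dvd_iff_le_factorization Nat.card_pos.ne'] at h
      exact h
    · exact (Nat.factorization_le_iff_dvd Nat.card_pos.ne' Nat.card_pos.ne').2
        (card_subgroup_dvd_card D.O) q
  · rw [orderOf_pow' (D.x : G) two_ne_zero, hc8]
    norm_num
  · intro g hg
    obtain ⟨s, hs, hgs⟩ := D.qd.exists_conj_in_sylow g (k := 3) (by rw [hg]; norm_num)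
    have hq : H67.qdQ D.n = 2 := by rw [hn]; rfl
    rcases D.qd.cases s with ⟨i, rfl⟩ | ⟨i, rfl⟩
    swap
    · exfalso
      have h4 : (D.x ^ i * D.y) ^ 4 = 1 := by
        rw [show (4 : ℕ) = 2 * 2 from rfl, pow_mul, D.qd.sq_y_form, D.qd.sq_c_form, hq,
          D.qd.zpow_x_eq_one_iff, hq]
        exact ⟨i, by ring⟩
      have := orderOf_dvd_of_pow_eq_one h4
      rw [hs] at this
      norm_num at this
    have hodd : ¬ 2 ∣ i := by
      rintro ⟨c, rfl⟩
      have h4 : (D.x ^ (2 * c)) ^ 4 = 1 := by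
        rw [← zpow_natCast, ← zpow_mul, D.qd.zpow_x_eq_one_iff, hq]
        exact ⟨c, by push_cast; ring⟩
      have := orderOf_dvd_of_pow_eq_one h4
      rw [hs] at this
      norm_num at this
    have h3 : IsConj ((D.x ^ (3 : ℤ) : ↥(D.S : Subgroup G)) : G) (D.x : G) := by
      refine (isConj_iff.2 ⟨(D.y : G), ?_⟩).symm
      have e := D.qd.y_conj 1
      rw [zpow_one, hq] at e
      rw [show (3 : ℤ) = 1 * (2 * 2 - 1) by norm_num, ← e]
      rfl
    have hmod : i % 8 = 1 ∨ i % 8 = 3 ∨ i % 8 = 5 ∨ i % 8 = 7 := by omega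
    have hred : D.x ^ i = D.x ^ (i % 8) := by
      rw [D.qd.zpow_x_eq_iff, hq]
      exact ⟨i / 8, by omega⟩
    rw [hred] at hgs
    rcases hmod with h | h | h | h <;> rw [h] at hgs
    · exact Or.inl (by simpa using hgs)
    · exact Or.inl (hgs.trans h3)
    · refine Or.inr (hgs.trans ?_)
      rw [show D.x ^ (5 : ℤ) = (D.x ^ (3 : ℤ))⁻¹ by
        rw [← zpow_neg, D.qd.zpow_x_eq_iff, hq]; exact ⟨1, by norm_num⟩]
      obtain ⟨a, ha⟩ := isConj_iff.1 h3
      exact isConj_iff.2 ⟨a, by rw [InvMemClass.coe_inv, ← conj_inv, ha]⟩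
    · refine Or.inr ?_
      rw [show D.x ^ (7 : ℤ) = D.x⁻¹ by
        rw [← zpow_neg_one, D.qd.zpow_x_eq_iff, hq]; exact ⟨1, by norm_num⟩] at hgs
      simpa using hgs
  · intro h
    obtain ⟨g, hg⟩ := isConj_iff.1 h
    have hgC : g ∈ centralizer ({D.t} : Set G) := by
      refine mem_centralizer_singleton_iff.2 ?_
      have e : g * D.t * g⁻¹ = D.t⁻¹ := by rw [← hc4, ← conj_pow, hg, inv_pow]
      rw [inv_eq_of_mul_eq_one_right (show D.t * D.t = 1 by
        rw [← pow_two]; exact orderOf_dvd_iff_pow_eq_one.1 (dvd_of_eq D.t_ord))] at e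
      exact mul_inv_eq_iff_eq_mul.1 e
    refine m_eight_nonreal _ hm8 hm4 _ (E.det_ne ⟨g, hgC⟩) ?_
    rw [← E.mm_mul, ← E.mm_mul]
    congr 1
    refine Subtype.ext ?_
    show (D.x : G) * g * (D.x : G) = g
    calc (D.x : G) * g * (D.x : G) = (D.x : G) * (g * (D.x : G) * g⁻¹) * g := by group
      _ = g := by rw [hg, mul_inv_cancel, one_mul]

end Pi

/-- The solvable branch. -/
theorem core : H70.CSy.CoreStmt.{u} := by
  intro G _ _ D hsol hno
  obtain ⟨π, hs, hk⟩ := solvable_quot D hsol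
  exact Pi.core_aux ⟨π, hs, hk⟩ hno

end H72.CSy
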