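import Cfsg.Agent.H70.CSy.Tools
import Cfsg.Agent.S0215
import Cfsg.Agent.H1.CoprimeAction

/-!
A subgroup whose only involution centralising `t` is `t` lies in `C(t)` (for S4069).
-/

set_option autoImplicit false

open Cfsg Subgroup

namespace H72.CSy

universe u

variable {G : Type u} [Group G] [Finite G]

theorem cyclic_dichotomy {q : ℕ} [hq : Fact q.Prime] (hq2 : q ≠ 2) {P : Subgroup G} [IsCyclic P]
    (hP : IsPGroup q P) {i : G} (hi : i * i = 1) (hn : i ∈ normalizer (P : Set G)) :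
    (∀ a ∈ P, i * a * i⁻¹ = a) ∨ ∀ a ∈ P, i * a * i⁻¹ = a⁻¹ := by
  obtain ⟨a, ha⟩ := IsCyclic.exists_generator (α := P)
  have hgen : ∀ b ∈ P, ∃ j : ℤ, b = (a : G) ^ j := by
    intro b hb
    obtain ⟨j, hj⟩ := mem_zpowers_iff.1 (ha ⟨b, hb⟩)
    exact ⟨j, by simpa using (congrArg Subtype.val hj).symm⟩
  obtain ⟨m, hm⟩ := hgen _ ((mem_normalizer_iff.1 hn (a : G)).1 a.2)
  obtain ⟨k, hk⟩ : ∃ k, orderOf (a : G) = q ^ k := by
    obtain ⟨j, hj⟩ := hP a
    obtain ⟨k, -, hk⟩ := (Nat.dvd_prime_pow hq.out).1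
      (orderOf_dvd_of_pow_eq_one (show (a : G) ^ (q ^ j) = 1 by simpa using congrArg Subtype.val hj))
    exact ⟨k, hk⟩
  have hmm : (a : G) ^ (m * m) = (a : G) ^ (1 : ℤ) := by
    rw [zpow_one, zpow_mul, ← hm, conj_zpow, ← hm,
      show i * (i * a * i⁻¹) * i⁻¹ = i * i * a * (i * i)⁻¹ from by group, hi, one_mul, inv_one,
      mul_one]
  rw [zpow_eq_zpow_iff_modEq, hk, Int.modEq_iff_dvd] at hmm
  have hdvd : ((q ^ k : ℕ) : ℤ) ∣ (m - 1) * (m + 1) := by
    rw [show (m - 1) * (m + 1) = -(1 - m * m) by ring]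
    exact hmm.neg_right
  have hpq : Prime (q : ℤ) := Nat.prime_iff_prime_int.1 hq.out
  by_cases h1 : (q : ℤ) ∣ m - 1
  · have h2 : ¬ (q : ℤ) ∣ m + 1 := fun h2 => by
      have h3 : (q : ℤ) ∣ 2 := by
        have := dvd_sub h2 h1
        simpa using this
      have h4 : q ∣ 2 := by exact_mod_cast h3
      exact hq2 ((Nat.prime_dvd_prime_iff_eq hq.out Nat.prime_two).1 h4)
    have h3 : ((q ^ k : ℕ) : ℤ) ∣ m - 1 := by
      push_cast at hdvd ⊢
      exact ((hpq.coprime_iff_not_dvd.2 h2).pow_left).dvd_of_dvd_mul_right hdvd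
    left
    intro b hb
    obtain ⟨j, rfl⟩ := hgen b hb
    rw [← conj_zpow, hm, ← zpow_mul, zpow_eq_zpow_iff_modEq, hk, Int.modEq_iff_dvd]
    rw [show j - m * j = -(j * (m - 1)) by ring]
    exact (dvd_mul_of_dvd_right h3 j).neg_right
  · have h3 : ((q ^ k : ℕ) : ℤ) ∣ m + 1 := by
      push_cast at hdvd ⊢
      exact ((hpq.coprime_iff_not_dvd.2 h1).pow_left).dvd_of_dvd_mul_left hdvd
    right
    intro b hb
    obtain ⟨j, rfl⟩ := hgen b hb
    rw [← conj_zpow, hm, ← zpow_mul, ← zpow_neg, zpow_eq_zpow_iff_modEq, hk, Int.modEq_iff_dvd]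
    rw [show -j - m * j = -(j * (m + 1)) by ring]
    exact (dvd_mul_of_dvd_right h3 j).neg_right

theorem card_cent_conj {s t : G} (h : IsConj t s) :
    Nat.card (centralizer ({s} : Set G)) = Nat.card (centralizer ({t} : Set G)) := by
  obtain ⟨g, hg⟩ := isConj_iff.1 h
  have : centralizer ({s} : Set G) = (centralizer ({t} : Set G)).map (MulAut.conj g).toMonoidHom := by
    ext w
    rw [mem_centralizer_singleton_iff]
    constructor
    · intro hw
      refine ⟨g⁻¹ * w * g, mem_centralizer_singleton_iff.2 ?_, by simp [mul_assoc]⟩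
      rw [← hg] at hw
      calc g⁻¹ * w * g * t = g⁻¹ * (w * (g * t * g⁻¹)) * g := by group
        _ = t * (g⁻¹ * w * g) := by rw [hw]; group
    · rintro ⟨v, hv, rfl⟩
      rw [← hg]
      show g * v * g⁻¹ * (g * t * g⁻¹) = g * t * g⁻¹ * (g * v * g⁻¹)
      rw [show g * v * g⁻¹ * (g * t * g⁻¹) = g * (v * t) * g⁻¹ from by group,
        mem_centralizer_singleton_iff.1 hv]
      group
  rw [this, card_map_of_injective (MulAut.conj g).injective]

/-- `t` centralises an odd subgroup normalised by a four-group of conjugates of `t`. -/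
theorem odd_le_cent (hodd : H76.CSy.OddCyclic G) {t s : G} (ht : orderOf t = 2)
    (hone : H76.CSy.OneClass G t) (hs : orderOf s = 2) (hst : s * t = t * s) (hne : s ≠ t)
    {M : Subgroup G} (hM : Odd (Nat.card M)) (htM : t ∈ normalizer (M : Set G))
    (hsM : s ∈ normalizer (M : Set G))
    (hz : ∀ q : ℕ, q.Prime → q ∣ Nat.card M → q ∣ Nat.card (centralizer ({t} : Set G)) →
      ∃ z ∈ M, t * z = z * t ∧ orderOf z = q) : M ≤ centralizer ({t} : Set G) := by
  classical
  have ht2 : t * t = 1 := by rw [← pow_two]; exact orderOf_dvd_iff_pow_eq_one.1 (dvd_of_eq ht)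
  have hs2 : s * s = 1 := by rw [← pow_two]; exact orderOf_dvd_iff_pow_eq_one.1 (dvd_of_eq hs)
  have hts : orderOf (t * s) = 2 := by
    refine orderOf_eq_prime ?_ ?_
    · rw [pow_two, show t * s * (t * s) = t * (s * t) * s from by group, hst, ← mul_assoc, ht2,
        one_mul, hs2]
    · intro h
      exact hne ((eq_inv_of_mul_eq_one_right h).trans (inv_eq_of_mul_eq_one_right ht2))
  let U : Subgroup G :=
    { carrier := {g | g = 1 ∨ g = t ∨ g = s ∨ g = t * s}
      one_mem' := Or.inl rfl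
      mul_mem' := by
        have e1 : s * (t * s) = t := by rw [← mul_assoc, hst, mul_assoc, hs2, mul_one]
        have e2 : t * (t * s) = s := by rw [← mul_assoc, ht2, one_mul]
        have e3 : t * s * t = s := by rw [mul_assoc, hst, e2]
        have e4 : t * s * s = t := by rw [mul_assoc, hs2, mul_one]
        have e5 : t * s * (t * s) = 1 := by rw [← mul_assoc, e3, hs2]
        rintro a b (rfl | rfl | rfl | rfl) (rfl | rfl | rfl | rfl) <;>
          simp [ht2, hs2, hst, e1, e2, e3, e4, e5]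
      inv_mem' := by
        rintro a (rfl | rfl | rfl | rfl)
        · exact Or.inl inv_one
        · exact Or.inr (Or.inl (inv_eq_of_mul_eq_one_right ht2))
        · exact Or.inr (Or.inr (Or.inl (inv_eq_of_mul_eq_one_right hs2)))
        · refine Or.inr (Or.inr (Or.inr (inv_eq_of_mul_eq_one_right ?_)))
          rw [← pow_two]
          exact orderOf_dvd_iff_pow_eq_one.1 (dvd_of_eq hts) }
  haveI : Fact (Nat.Prime 2) := ⟨Nat.prime_two⟩
  have hU2 : IsPGroup 2 U := by
    intro g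
    refine ⟨1, Subtype.ext ?_⟩
    have hg := g.2
    rw [SubmonoidClass.coe_pow, pow_one]
    show (g : G) ^ 2 = 1
    rcases hg with h | h | h | h <;> rw [h]
    · exact one_pow 2
    · rw [pow_two, ht2]
    · rw [pow_two, hs2]
    · exact orderOf_dvd_iff_pow_eq_one.1 (dvd_of_eq hts)
  have hUM : U ≤ normalizer (M : Set G) := by
    rintro g (rfl | rfl | rfl | rfl)
    exacts [one_mem _, htM, hsM, mul_mem htM hsM]
  have hUsol : Group.IsSolvable U := by
    haveI := hU2.isNilpotent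
    infer_instance
  obtain ⟨k, hk⟩ := IsPGroup.iff_card.1 hU2
  have hcop : (Nat.card U).Coprime (Nat.card M) := by
    rw [hk]; exact Nat.Coprime.pow_left k (Nat.coprime_two_left.2 hM)
  set I := M ⊓ centralizer ({t} : Set G) with hI
  suffices h : Nat.card M ∣ Nat.card I by
    exact (eq_of_le_of_card_ge (inf_le_left : I ≤ M) (Nat.le_of_dvd Nat.card_pos h)).ge.trans
      inf_le_right
  rw [Nat.dvd_iff_prime_pow_dvd_dvd]
  intro q j hq hqj
  rcases Nat.eq_zero_or_pos j with rfl | hj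
  · simp
  haveI := Fact.mk hq
  have hqM : q ∣ Nat.card M := (dvd_pow_self q hj.ne').trans hqj
  have hq2 : q ≠ 2 := by
    rintro rfl
    exact hM.not_two_dvd_nat hqM
  have key : ∀ (L : Subgroup G) (P : Sylow q L), L ≤ M →
      (∀ a ∈ (P : Subgroup L).map L.subtype, t * a * t⁻¹ = a) →
      q ^ j ∣ Nat.card L → q ^ j ∣ Nat.card I := by
    intro L P hLM hfix hL
    have h1 : q ^ j ∣ Nat.card ((P : Subgroup L).map L.subtype) := by
      rw [card_map_of_injective L.subtype_injective, P.card_eq_multiplicity]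
      exact pow_dvd_pow q ((hq.pow_dvd_iff_le_factorization Nat.card_pos.ne').1 hL)
    refine h1.trans (card_dvd_of_le fun a ha => mem_inf.2 ⟨hLM (map_subtype_le _ ha),
      mem_centralizer_singleton_iff.2 ?_⟩)
    exact (mul_inv_eq_iff_eq_mul.1 (hfix a ha)).symm
  obtain ⟨P, hP⟩ := H1.exists_invariant_sylow hUM hcop (Or.inl hUsol) q
  set P₁ := (P : Subgroup M).map M.subtype with hP₁
  haveI hPc : IsCyclic P₁ := H70.CSy.isCyclic_of_odd_pGroup hodd hq2 (P.2.map _)
  have htP : t ∈ normalizer (P₁ : Set G) := hP (Or.inr (Or.inl rfl))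
  have hsP : s ∈ normalizer (P₁ : Set G) := hP (Or.inr (Or.inr (Or.inl rfl)))
  rcases cyclic_dichotomy hq2 (P.2.map _) ht2 htP with hfix | hinv
  · exact key M P le_rfl hfix hqj
  have hu : ∃ u : G, orderOf u = 2 ∧ P₁ ≤ centralizer ({u} : Set G) := by
    rcases cyclic_dichotomy hq2 (P.2.map _) hs2 hsP with hfix' | hinv'
    · exact ⟨s, hs, fun a ha => mem_centralizer_singleton_iff.2
        (mul_inv_eq_iff_eq_mul.1 (hfix' a ha)).symm⟩
    · refine ⟨t * s, hts, fun a ha => mem_centralizer_singleton_iff.2 ?_⟩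
      have h : t * s * a * (t * s)⁻¹ = a := by
        rw [show t * s * a * (t * s)⁻¹ = t * (s * a * s⁻¹) * t⁻¹ from by group, hinv' a ha,
          show t * a⁻¹ * t⁻¹ = (t * a * t⁻¹)⁻¹ from by group, hinv a ha, inv_inv]
      exact (mul_inv_eq_iff_eq_mul.1 h).symm
  obtain ⟨u, hu2, hu⟩ := hu
  have hqC : q ∣ Nat.card (centralizer ({t} : Set G)) := by
    rw [← card_cent_conj (hone u hu2)]
    refine Dvd.dvd.trans ?_ (card_dvd_of_le hu)
    rw [hP₁, card_map_of_injective M.subtype_injective]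
    refine dvd_trans (dvd_pow_self q hj.ne') ?_
    rw [P.card_eq_multiplicity]
    exact pow_dvd_pow q ((hq.pow_dvd_iff_le_factorization Nat.card_pos.ne').1 hqj)
  obtain ⟨z, hzM, hzt, hzo⟩ := hz q hq hqM hqC
  set L := M ⊓ centralizer ({z} : Set G) with hL
  have htL : t ∈ normalizer (L : Set G) := by
    refine mem_normalizer_fintype fun w hw => ?_
    obtain ⟨hw1, hw2⟩ := mem_inf.1 hw
    refine mem_inf.2 ⟨(mem_normalizer_iff.1 htM w).1 hw1, mem_centralizer_singleton_iff.2 ?_⟩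
    have hc : Commute t z := hzt
    calc t * w * t⁻¹ * z = t * w * (t⁻¹ * z) := by group
      _ = t * w * (z * t⁻¹) := by rw [hc.inv_left.eq]
      _ = t * (w * z) * t⁻¹ := by group
      _ = t * (z * w) * t⁻¹ := by rw [mem_centralizer_singleton_iff.1 hw2]
      _ = (t * z) * w * t⁻¹ := by group
      _ = z * (t * w * t⁻¹) := by rw [hzt]; group
  have hcop' : (Nat.card (zpowers t)).Coprime (Nat.card L) := by
    rw [Nat.card_zpowers, ht]
    exact Nat.coprime_two_left.2 (hM.of_dvd_nat (card_dvd_of_le inf_le_left))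
  obtain ⟨R, hR⟩ := H1.exists_invariant_sylow (zpowers_le.2 htL) hcop' (Or.inl inferInstance) q
  haveI : IsCyclic ((R : Subgroup L).map L.subtype) :=
    H70.CSy.isCyclic_of_odd_pGroup hodd hq2 (R.2.map _)
  have hzL : z ∈ L := mem_inf.2 ⟨hzM, mem_centralizer_singleton_iff.2 rfl⟩
  have hzR : z ∈ (R : Subgroup L).map L.subtype := by
    haveI : (zpowers (⟨z, hzL⟩ : L)).Normal := by
      refine ⟨fun w hw g => ?_⟩
      obtain ⟨c, rfl⟩ := mem_zpowers_iff.1 hw
      have hg : g * ⟨z, hzL⟩ * g⁻¹ = (⟨z, hzL⟩ : L) := Subtype.ext (by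
        show (g : G) * z * (g : G)⁻¹ = z
        rw [mem_centralizer_singleton_iff.1 (mem_inf.1 g.2).2, mul_inv_cancel_right])
      rw [← conj_zpow, hg]
      exact zpow_mem (mem_zpowers _) c
    have hpz : IsPGroup q (zpowers (⟨z, hzL⟩ : L)) :=
      IsPGroup.of_card (n := 1) (by rw [Nat.card_zpowers, Subgroup.orderOf_mk, hzo, pow_one])
    exact ⟨⟨z, hzL⟩, hpz.le_sylow_of_normal R (mem_zpowers _), rfl⟩
  rcases cyclic_dichotomy hq2 (R.2.map _) ht2 (hR (mem_zpowers t)) with hfix | hinv'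
  · refine key L R inf_le_left hfix ?_
    have hzp : IsPGroup q (zpowers (⟨z, hzM⟩ : M)) :=
      IsPGroup.of_card (n := 1) (by rw [Nat.card_zpowers, Subgroup.orderOf_mk, hzo, pow_one])
    obtain ⟨P', hP'⟩ := hzp.exists_le_sylow
    haveI : IsCyclic ((P' : Subgroup M).map M.subtype) :=
      H70.CSy.isCyclic_of_odd_pGroup hodd hq2 (P'.2.map _)
    letI : CommGroup ((P' : Subgroup M).map M.subtype) := IsCyclic.commGroup
    have h1 : (P' : Subgroup M).map M.subtype ≤ L := by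
      intro a ha
      have hzP : z ∈ (P' : Subgroup M).map M.subtype := ⟨⟨z, hzM⟩, hP' (mem_zpowers _), rfl⟩
      refine mem_inf.2 ⟨map_subtype_le _ ha, mem_centralizer_singleton_iff.2 ?_⟩
      exact congrArg Subtype.val
        (mul_comm (⟨a, ha⟩ : (P' : Subgroup M).map M.subtype) ⟨z, hzP⟩)
    refine Dvd.dvd.trans ?_ (card_dvd_of_le h1)
    rw [card_map_of_injective M.subtype_injective, P'.card_eq_multiplicity]
    exact pow_dvd_pow q ((hq.pow_dvd_iff_le_factorization Nat.card_pos.ne').1 hqj)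
  · exfalso
    have h1 := hinv' z hzR
    rw [hzt, mul_inv_cancel_right, eq_inv_iff_mul_eq_one, ← pow_two] at h1
    have := orderOf_dvd_of_pow_eq_one h1
    rw [hzo] at this
    exact hq2 ((Nat.prime_dvd_prime_iff_eq hq Nat.prime_two).1 this)

/-- A subgroup containing `t` as its only involution in `C(t)` lies in `C(t)`. -/
theorem le_cent (hodd : H76.CSy.OddCyclic G) {t s : G} (ht : orderOf t = 2)
    (hone : H76.CSy.OneClass G t) (hs : orderOf s = 2) (hst : s * t = t * s) (hne : s ≠ t)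
    {H : Subgroup G} (htH : t ∈ H) (hsH : s ∈ normalizer (H : Set G))
    (hu : ∀ i ∈ H, orderOf i = 2 → i * t = t * i → i = t)
    (hz : ∀ q : ℕ, q.Prime → q ≠ 2 → q ∣ Nat.card H →
      q ∣ Nat.card (centralizer ({t} : Set G)) → ∃ z ∈ H, t * z = z * t ∧ orderOf z = q) :
    H ≤ centralizer ({t} : Set G) := by
  classical
  haveI : Fact (Nat.Prime 2) := ⟨Nat.prime_two⟩
  set τ : H := ⟨t, htH⟩ with hτ
  have hτo : orderOf τ = 2 := by rw [hτ, Subgroup.orderOf_mk, ht]
  have hp : IsPGroup 2 (zpowers τ) :=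
    IsPGroup.of_card (n := 1) (by rw [Nat.card_zpowers, hτo, pow_one])
  obtain ⟨P, hP⟩ := hp.exists_le_sylow
  have hτP : τ ∈ (P : Subgroup H) := hP (mem_zpowers _)
  haveI : Nontrivial (P : Subgroup H) := by
    refine ⟨⟨⟨τ, hτP⟩, 1, fun h => ?_⟩⟩
    have h' : τ = 1 := congrArg Subtype.val h
    rw [h', orderOf_one] at hτo
    omega
  haveI := P.2.center_nontrivial
  obtain ⟨c, hc1⟩ := exists_ne (1 : center (P : Subgroup H))
  have hzc : 2 ∣ Nat.card (center (P : Subgroup H)) := by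
    obtain ⟨m, hm⟩ := IsPGroup.iff_card.1 (P.2.to_subgroup (center (P : Subgroup H)))
    rw [hm]
    refine dvd_pow_self 2 fun hm0 => hc1 ?_
    rw [hm0, pow_zero, Nat.card_eq_one_iff_unique] at hm
    exact @Subsingleton.elim _ hm.1 _ _
  obtain ⟨⟨w, hwc⟩, hw⟩ := exists_prime_orderOf_dvd_card' 2 hzc
  rw [Subgroup.orderOf_mk] at hw
  have hwt : ((w : H) : G) = t := by
    refine hu _ (w : H).2 (by rw [Subgroup.orderOf_coe, Subgroup.orderOf_coe, hw]) ?_
    exact congrArg (fun v : (P : Subgroup H) => ((v : H) : G))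
      (mem_center_iff.1 hwc ⟨τ, hτP⟩).symm
  have hiso : ∀ g : H, g * τ * g⁻¹ ∈ P → g * τ * g⁻¹ = τ := by
    intro g hg
    refine Subtype.ext (hu _ (g * τ * g⁻¹).2 ?_ ?_)
    · rw [Subgroup.orderOf_coe,
        show g * τ * g⁻¹ = (MulAut.conj g).toMonoidHom τ from rfl,
        orderOf_injective (MulAut.conj g).toMonoidHom (MulAut.conj g).injective, hτo]
    · have := congrArg (fun v : (P : Subgroup H) => ((v : H) : G)) (mem_center_iff.1 hwc ⟨_, hg⟩)
      rw [← hwt]
      exact this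
  obtain ⟨N, hNn, hNodd, hN⟩ := Cfsg.Agent.S0215.result P τ hτo hτP hiso
  haveI := H1.pPrimeCore_normal' 2 H
  haveI := hNn
  have hNle : N ≤ Cfsg.pPrimeCore 2 H := H1.le_pPrimeCore (Nat.coprime_two_right.2 hNodd)
  set M := (Cfsg.pPrimeCore 2 H).map H.subtype with hMdef
  have hMn : ∀ g : G, g ∈ normalizer (H : Set G) → g ∈ normalizer (M : Set G) := by
    intro g hg
    refine mem_normalizer_fintype fun w hw => ?_
    obtain ⟨v, hv, rfl⟩ := mem_map.1 hw
    have hch := characteristic_iff_map_eq.1 (H1.pPrimeCore_characteristic 2 H)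
      (H.normalizerMonoidHom ⟨g, hg⟩)
    refine mem_map.2 ⟨H.normalizerMonoidHom ⟨g, hg⟩ v, ?_, rfl⟩
    rw [← hch]
    exact mem_map_of_mem _ hv
  have hMH : M ≤ H := map_subtype_le _
  have hMC : M ≤ centralizer ({t} : Set G) := by
    refine odd_le_cent hodd ht hone hs hst hne ?_ (hMn t (le_normalizer htH)) (hMn s hsH) ?_
    · rw [hMdef, card_map_of_injective H.subtype_injective]
      exact Nat.coprime_two_right.1 (H1.card_pPrimeCore_coprime 2 H)
    intro q hq hqM hqC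
    haveI := Fact.mk hq
    have hMc : Nat.card M = Nat.card (Cfsg.pPrimeCore 2 H) :=
      card_map_of_injective H.subtype_injective
    have hq2 : q ≠ 2 := by
      rintro rfl
      exact (Nat.coprime_two_right.1 (H1.card_pPrimeCore_coprime 2 H)).not_two_dvd_nat (hMc ▸ hqM)
    obtain ⟨z, hzH, hzt, hzo⟩ := hz q hq hq2 (hqM.trans (card_dvd_of_le hMH)) hqC
    refine ⟨z, ?_, hzt, hzo⟩
    obtain ⟨⟨w, hwM⟩, hw⟩ := exists_prime_orderOf_dvd_card' q (hMc ▸ hqM)
    rw [Subgroup.orderOf_mk] at hw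
    have hz' : orderOf (⟨z, hzH⟩ : H) = q := by rw [Subgroup.orderOf_mk, hzo]
    have hpz : ∀ v : H, orderOf v = q → ∃ Q : Sylow q H, zpowers v ≤ (Q : Subgroup H) := fun v hv =>
      (IsPGroup.of_card (n := 1) (by rw [Nat.card_zpowers, hv, pow_one])).exists_le_sylow
    obtain ⟨Q₁, hQ₁⟩ := hpz _ hz'
    obtain ⟨Q₂, hQ₂⟩ := hpz w hw
    obtain ⟨g, hg⟩ := MulAction.exists_smul_eq H Q₂ Q₁
    have hgw : g * w * g⁻¹ ∈ (Q₁ : Subgroup H) := by
      rw [← hg]
      exact ⟨w, hQ₂ (mem_zpowers w), rfl⟩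
    haveI : IsCyclic ((Q₁ : Subgroup H).map H.subtype) :=
      H70.CSy.isCyclic_of_odd_pGroup hodd hq2 (Q₁.2.map _)
    haveI : IsCyclic (Q₁ : Subgroup H) := isCyclic_of_injective
      ((Q₁ : Subgroup H).equivMapOfInjective H.subtype H.subtype_injective).toMonoidHom
      (MulEquiv.injective _)
    have hA : orderOf (⟨⟨z, hzH⟩, hQ₁ (mem_zpowers _)⟩ : (Q₁ : Subgroup H)) = q :=
      (Subgroup.orderOf_coe _).symm.trans hz'
    have hB : orderOf (⟨g * w * g⁻¹, hgw⟩ : (Q₁ : Subgroup H)) = q := by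
      refine (Subgroup.orderOf_coe _).symm.trans ?_
      show orderOf ((MulAut.conj g).toMonoidHom w) = q
      rw [orderOf_injective (MulAut.conj g).toMonoidHom (MulAut.conj g).injective, hw]
    have heq := H70.CSy.cyclic_eq_of_card
      (zpowers (⟨⟨z, hzH⟩, hQ₁ (mem_zpowers _)⟩ : (Q₁ : Subgroup H)))
      (zpowers (⟨g * w * g⁻¹, hgw⟩ : (Q₁ : Subgroup H))) (by
        rw [Nat.card_zpowers, Nat.card_zpowers, hA, hB])
    obtain ⟨c, hc⟩ := mem_zpowers_iff.1 (heq.le (mem_zpowers _))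
    have hc' : (g * w * g⁻¹) ^ c = (⟨z, hzH⟩ : H) := by
      simpa using congrArg Subtype.val hc
    refine mem_map.2 ⟨⟨z, hzH⟩, ?_, rfl⟩
    rw [← hc']
    exact zpow_mem ((H1.pPrimeCore_normal' 2 H).conj_mem w hwM g) c
  intro g hg
  rw [mem_centralizer_singleton_iff]
  have hn := hN ⟨g, hg⟩
  have hnM : t * g * t⁻¹ * g⁻¹ ∈ M := mem_map.2 ⟨_, hNle hn, rfl⟩
  set n := t * g * t⁻¹ * g⁻¹ with hn'
  have hnt : n * t = t * n := mem_centralizer_singleton_iff.1 (hMC hnM)
  have ht2 : t * t = 1 := by rw [← pow_two]; exact orderOf_dvd_iff_pow_eq_one.1 (dvd_of_eq ht)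
  have hn2 : n ^ 2 = 1 := by
    have e1 : t * n * t⁻¹ = n⁻¹ := by
      rw [hn', show t * (t * g * t⁻¹ * g⁻¹) * t⁻¹ = t * t * g * t⁻¹ * g⁻¹ * t⁻¹ from by group, ht2,
        one_mul]
      simp only [mul_inv_rev, inv_inv, inv_eq_of_mul_eq_one_right ht2, mul_assoc]
    rw [← hnt, mul_inv_cancel_right, eq_inv_iff_mul_eq_one, ← pow_two] at e1
    exact e1
  have hn1 : n = 1 := by
    have hodd' : Odd (orderOf n) := by
      refine Odd.of_dvd_nat ?_ (Subgroup.orderOf_dvd_natCard _ hnM)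
      rw [hMdef, card_map_of_injective H.subtype_injective]
      exact Nat.coprime_two_right.1 (H1.card_pPrimeCore_coprime 2 H)
    rcases (Nat.dvd_prime Nat.prime_two).1 (orderOf_dvd_of_pow_eq_one hn2) with h | h
    · exact orderOf_eq_one_iff.1 h
    · rw [h] at hodd'; exact absurd hodd' (by decide)
  rw [hn', mul_inv_eq_one, mul_inv_eq_iff_eq_mul] at hn1
  exact hn1.symm

end H72.CSy
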