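import Mathlib

/-!
Finite facts about `GL(2,3)` (for the solvable semidihedral branch of S4069).
-/

set_option autoImplicit false
set_option synthInstance.maxSize 2048
set_option synthInstance.maxHeartbeats 400000

namespace H72.CSy

local notation "M23" => Matrix (Fin 2) (Fin 2) (ZMod 3)

theorem det_cases (g : M23) (h : g.det ≠ 0) : g.det = 1 ∨ g.det = 2 := by
  revert h
  generalize g.det = d
  revert d
  decide

theorem m_three_det : ∀ g : M23, g * g * g = 1 → g.det = 1 := by decide +kernel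

theorem m_three_inv : ∀ g : M23, g * g * g = 1 → g ≠ 1 →
    ∃ a : M23, a.det ≠ 0 ∧ g * a * g = a := by decide +kernel

theorem m_three_inv_det : ∀ g : M23, g * g * g = 1 → g ≠ 1 →
    ∀ a : M23, a.det ≠ 0 → g * a * g = a → a.det = 2 ∧ a * a = 1 := by decide +kernel

theorem m_three_cent_det : ∀ g : M23, g * g * g = 1 → g ≠ 1 →
    ∀ a : M23, a.det ≠ 0 → a * g = g * a → a.det = 1 := by decide +kernel

theorem m_three_cent_card : ∀ g : M23, g * g * g = 1 → g ≠ 1 →
    (Finset.univ.filter fun a : M23 => a.det ≠ 0 ∧ a * g = g * a).card = 6 := by decide +kernel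

theorem m_eight_nonreal : ∀ g : M23, g ^ 8 = 1 → g ^ 4 ≠ 1 →
    ∀ a : M23, a.det ≠ 0 → g * a * g ≠ a := by decide +kernel

theorem m_eight_cent : ∀ g : M23, g ^ 8 = 1 → g ^ 4 ≠ 1 →
    ∀ a : M23, a.det ≠ 0 → a * (g * g) = g * g * a → ∃ i : Fin 8, a = g ^ i.val := by
  decide +kernel

theorem m_q8_mul : ∀ a : M23, a.det = 1 → a ^ 4 = 1 → ∀ b : M23, b.det = 1 → b ^ 4 = 1 →
    (a * b) ^ 4 = 1 := by decide +kernel

theorem m_q8_self : ∀ a : M23, a.det ≠ 0 →
    (∀ b : M23, b.det = 1 → b ^ 4 = 1 → a * b = b * a) → a.det = 1 ∧ a ^ 4 = 1 := by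
  decide +kernel

theorem m_q8_card :
    (Finset.univ.filter fun a : M23 => a.det = 1 ∧ a ^ 4 = 1).card = 8 := by decide +kernel

theorem m_inv_card :
    (Finset.univ.filter fun a : M23 => a.det = 2 ∧ a * a = 1).card = 12 := by decide +kernel

/-- matrices with nonzero determinant are units -/
noncomputable def toGL (g : M23) (h : g.det ≠ 0) : GL (Fin 2) (ZMod 3) :=
  haveI : Fact (Nat.Prime 3) := ⟨Nat.prime_three⟩
  Matrix.GeneralLinearGroup.mkOfDetNeZero g h

theorem coe_toGL (g : M23) (h : g.det ≠ 0) : ((toGL g h : GL (Fin 2) (ZMod 3)) : M23) = g := rfl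

theorem det_coe_ne (g : GL (Fin 2) (ZMod 3)) : (g : M23).det ≠ 0 := by
  intro h
  have := congrArg Matrix.det (g.mul_inv)
  rw [Matrix.det_mul, h, zero_mul, Matrix.det_one] at this
  exact zero_ne_one this

theorem card_filter (p : M23 → Prop) [DecidablePred p] :
    Nat.card {g : GL (Fin 2) (ZMod 3) // p (g : M23)} =
      (Finset.univ.filter fun a : M23 => a.det ≠ 0 ∧ p a).card := by
  classical
  rw [← Fintype.card_subtype, ← Nat.card_eq_fintype_card]
  refine Nat.card_congr
    { toFun := fun g => ⟨(g.1 : M23), det_coe_ne g.1, g.2⟩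
      invFun := fun a => ⟨toGL a.1 a.2.1, a.2.2⟩
      left_inv := fun g => Subtype.ext (Units.ext rfl)
      right_inv := fun a => Subtype.ext rfl }

theorem card_GL23 : Nat.card (GL (Fin 2) (ZMod 3)) = 48 := by
  haveI : Fact (Nat.Prime 3) := ⟨Nat.prime_three⟩
  rw [Matrix.card_GL_field, Fin.prod_univ_two, Fintype.card_eq_nat_card, Nat.card_zmod]
  norm_num

theorem quat16_involution : ∀ u v : QuaternionGroup 4,
    u ≠ 1 → u * u = 1 → v ≠ 1 → v * v = 1 → u = v := by decide +kernel

end H72.CSy
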