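import Cfsg.Agent.H70.CSy.Defs
import Cfsg.Agent.H70.CSy.Tools
import Cfsg.Agent.H70.OctahedralCover
import Cfsg.Agent.H76.DihSylow
import Cfsg.Agent.H72.CSy.GL

/-!
`C(t)` solvable in the semidihedral case of S4069: the quotient by the core is `GL(2,3)`.
-/

set_option autoImplicit false

open Cfsg Subgroup

namespace H72.CSy

universe u

theorem pow_two_odd_eq_one {Q : Type*} [Group Q] {g : Q} {j : ℕ} (h : g ^ (2 ^ j) = 1)
    (ho : Odd (orderOf g)) : g = 1 :=
  orderOf_eq_one_iff.1 (Nat.eq_one_of_dvd_coprimes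
    (Nat.Coprime.pow_right j ho.coprime_two_right) dvd_rfl (orderOf_dvd_of_pow_eq_one h))

theorem isPGroup_two_of_odd_central {Q : Type*} [Group Q] [Finite Q]
    (hCQ : centralizer (Cfsg.pCore 2 Q : Set Q) ≤ Cfsg.pCore 2 Q)
    (h : ∀ e : Q, Odd (orderOf e) → ∀ p ∈ Cfsg.pCore 2 Q, e * p = p * e) : IsPGroup 2 Q := by
  intro g
  obtain ⟨j, r, hr, hgr⟩ := Nat.exists_eq_two_pow_mul_odd (orderOf_pos g).ne'
  refine ⟨j, ?_⟩
  have ho : Odd (orderOf (g ^ 2 ^ j)) := by
    refine hr.of_dvd_nat (orderOf_dvd_of_pow_eq_one ?_)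
    rw [← pow_mul, ← hgr, pow_orderOf_eq_one]
  have hm : g ^ 2 ^ j ∈ Cfsg.pCore 2 Q :=
    hCQ (mem_centralizer_iff.2 fun p hp => (h _ ho p hp).symm)
  obtain ⟨i, hi⟩ := (H1.isPGroup_pCore 2 Q) ⟨_, hm⟩
  exact pow_two_odd_eq_one (by simpa using congrArg Subtype.val hi) ho

theorem solvable_quot {G : Type u} [Group G] [Finite G] (D : H70.CSy.Setup G)
    (hsol : Group.IsSolvable ↥(centralizer ({D.t} : Set G))) :
    ∃ π : ↥(centralizer ({D.t} : Set G)) →* GL (Fin 2) (ZMod 3),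
      Function.Surjective π ∧ ∀ g, π g = 1 ↔ (g : G) ∈ D.O := by
  classical
  haveI : Fact (Nat.Prime 2) := ⟨Nat.prime_two⟩
  set C := centralizer ({D.t} : Set G) with hC
  haveI hOn : (D.O.subgroupOf C).Normal :=
    (Subgroup.normal_subgroupOf_iff_le_normalizer D.O_le).mpr D.O_norm
  set O' := D.O.subgroupOf C with hO'
  set f := QuotientGroup.mk' O' with hf
  have hfs : Function.Surjective f := QuotientGroup.mk'_surjective _
  have hf1 : ∀ g : C, f g = 1 ↔ (g : G) ∈ D.O := fun g =>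
    (QuotientGroup.eq_one_iff g).trans mem_subgroupOf
  haveI : Group.IsSolvable (C ⧸ O') := by
    haveI := hsol
    exact Group.isSolvable_of_surjective hfs
  have hcore : Cfsg.oddCore (C ⧸ O') = ⊥ := by
    haveI := H1.pPrimeCore_normal' 2 (C ⧸ O')
    set M := (Cfsg.oddCore (C ⧸ O')).comap f with hM
    have hMn : M.Normal := inferInstance
    have hcard : Nat.card M = Nat.card O' * Nat.card (Cfsg.oddCore (C ⧸ O')) := by
      have h1 := M.card_mul_index
      rw [hM, index_comap_of_surjective _ hfs, O'.card_eq_card_quotient_mul_card_subgroup,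
        ← (Cfsg.oddCore (C ⧸ O')).card_mul_index] at h1
      refine Nat.eq_of_mul_eq_mul_right (Nat.pos_of_ne_zero index_ne_zero_of_finite) (h1.trans ?_)
      ring
    have hodd : Odd (Nat.card (M.map C.subtype)) := by
      rw [card_map_of_injective C.subtype_injective, hcard]
      refine Odd.mul ?_ (Nat.coprime_two_right.mp (H1.card_pPrimeCore_coprime 2 _))
      rw [hO', Nat.card_congr (subgroupOfEquivOfLe D.O_le).toEquiv]
      exact D.O_odd
    have hnorm : C ≤ normalizer ((M.map C.subtype : Subgroup G) : Set G) := by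
      intro g hg
      refine mem_normalizer_fintype fun w hw => ?_
      obtain ⟨v, hv, rfl⟩ := mem_map.1 hw
      exact mem_map.2 ⟨⟨g, hg⟩ * v * ⟨g, hg⟩⁻¹, hMn.conj_mem v hv _, by simp⟩
    have hle := D.O_max _ (map_subtype_le M) hnorm hodd
    rw [eq_bot_iff]
    intro q hq
    obtain ⟨g, rfl⟩ := hfs q
    rw [mem_bot, hf1]
    exact hle (mem_map.2 ⟨g, hq, rfl⟩)
  -- the Sylow subgroup
  set T : Sylow 2 (C ⧸ O') := (D.S.subtype D.S_le).mapSurjective hfs with hT
  let η : ↥(D.S : Subgroup G) →* C ⧸ O' := f.comp (Subgroup.inclusion D.S_le)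
  have hηe : ∀ s, η s = f ⟨s, D.S_le s.2⟩ := fun s => rfl
  have hηi : Function.Injective η := by
    rw [injective_iff_map_eq_one]
    intro s hs
    have hsO : (s : G) ∈ D.O := (hf1 _).1 hs
    obtain ⟨j, hj⟩ := D.S.2 s
    refine Subtype.ext (pow_two_odd_eq_one (j := j) ?_ ?_)
    · simpa using congrArg Subtype.val hj
    · exact D.O_odd.of_dvd_nat (Subgroup.orderOf_dvd_natCard _ hsO)
  have hrange : η.range = (T : Subgroup (C ⧸ O')) := by
    ext q
    constructor
    · rintro ⟨s, rfl⟩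
      exact ⟨⟨s, D.S_le s.2⟩, s.2, rfl⟩
    · rintro ⟨c, hc, rfl⟩
      exact ⟨⟨(c : G), hc⟩, rfl⟩
  let e : ↥(D.S : Subgroup G) ≃* ↥(T : Subgroup (C ⧸ O')) :=
    (MonoidHom.ofInjective hηi).trans (MulEquiv.subgroupCongr hrange)
  have hqd := D.qd.transport e
  have hTqd : IsQuasiDihedral ↥(T : Subgroup (C ⧸ O')) :=
    ⟨D.n, hqd.three_le, hqd.card_eq, e D.x, e D.y, hqd.ordx, hqd.ordy, hqd.rel⟩
  have hCQ : centralizer (Cfsg.pCore 2 (C ⧸ O') : Set (C ⧸ O')) ≤ Cfsg.pCore 2 (C ⧸ O') :=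
    H10.centralizer_pCore_le H10.isPSolvable_of_isSolvable hcore
  -- the quotient is not a 2-group
  have hno2 : ¬ IsPGroup 2 (C ⧸ O') := by
    intro h2
    let k : ↥D.K →* C ⧸ O' := f.comp (Subgroup.inclusion D.K_le)
    obtain ⟨m, hm⟩ := IsPGroup.iff_card.1 (h2.to_subgroup k.range)
    rcases Nat.eq_zero_or_pos m with rfl | hm0
    · rw [pow_zero] at hm
      have hb : k.range = ⊥ := Subgroup.card_eq_one.1 hm
      have : k ⟨D.t, D.t_mem_K⟩ = 1 := by
        rw [← mem_bot, ← hb]; exact ⟨_, rfl⟩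
      have htO : D.t ∈ D.O := (hf1 _).1 this
      have := D.O_odd.of_dvd_nat (Subgroup.orderOf_dvd_natCard _ htO)
      rw [D.t_ord] at this
      exact absurd this (by decide)
    · obtain ⟨L, hL⟩ := Sylow.exists_subgroup_card_pow_prime 2 (n := m - 1)
        (hm ▸ pow_dvd_pow 2 (by omega) : 2 ^ (m - 1) ∣ Nat.card k.range)
      refine D.K_no_two (L.comap k.rangeRestrict) ?_
      rw [index_comap_of_surjective _ k.rangeRestrict_surjective]
      have h1 := L.card_mul_index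
      rw [hL, hm, show 2 ^ m = 2 ^ (m - 1) * 2 by rw [← pow_succ]; congr 1; omega] at h1
      exact Nat.eq_of_mul_eq_mul_left (pow_pos two_pos _) h1
  have hnotN : ¬ (T : Subgroup (C ⧸ O')).Normal := by
    intro hn
    have hle : (T : Subgroup (C ⧸ O')) ≤ Cfsg.pCore 2 (C ⧸ O') := H1.le_pCore T.2
    refine hno2 (isPGroup_two_of_odd_central hCQ fun g hg p hp => ?_)
    have hpT : p ∈ (T : Subgroup (C ⧸ O')) := H1.pCore_le_sylow T hp
    obtain ⟨j, hj⟩ := H70.CSy.aut_two hTqd T.2 (MulAut.conjNormal g)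
    have h1 : MulAut.conjNormal (H := (T : Subgroup (C ⧸ O'))) g = 1 :=
      pow_two_odd_eq_one hj (hg.of_dvd_nat (orderOf_map_dvd _ g))
    have h3 := congrArg (fun a : MulAut ↥(T : Subgroup (C ⧸ O')) => ((a ⟨p, hpT⟩ :
      ↥(T : Subgroup (C ⧸ O'))) : C ⧸ O')) h1
    simp only [MulAut.conjNormal_apply, MulAut.one_apply] at h3
    exact mul_inv_eq_iff_eq_mul.1 h3
  -- involutions of the 2-core
  have hrank : Cfsg.PRankLE 2 1 ↥(Cfsg.pCore 2 (C ⧸ O')) := by
    suffices hu : ∀ u ∈ Cfsg.pCore 2 (C ⧸ O'), u ^ 2 = 1 → u = 1 ∨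
        u = η (D.x ^ (2 * H67.qdQ D.n)) by
      intro A _ hA
      have hin : ∀ a : A, ((a : ↥(Cfsg.pCore 2 (C ⧸ O'))) : C ⧸ O') = 1 ∨
          ((a : ↥(Cfsg.pCore 2 (C ⧸ O'))) : C ⧸ O') = η (D.x ^ (2 * H67.qdQ D.n)) :=
        fun a => hu _ (SetLike.coe_mem _) (by
          have := congrArg Subtype.val (hA _ a.2); simpa using this)
      refine (Nat.card_le_card_of_injective
        (fun a : A => decide (((a : ↥(Cfsg.pCore 2 (C ⧸ O'))) : C ⧸ O') = 1)) ?_).trans ?_
      · intro a b hab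
        refine Subtype.ext (Subtype.ext ?_)
        simp only [decide_eq_decide] at hab
        rcases hin a with ha | ha <;> rcases hin b with hb | hb
        · rw [ha, hb]
        · rw [ha, hab.1 ha]
        · rw [hab.2 hb, hb]
        · rw [ha, hb]
      · rw [Nat.card_eq_fintype_card, Fintype.card_bool, pow_one]
    intro u hu hu2
    obtain ⟨s, rfl⟩ : ∃ s, η s = u := by
      have := H1.pCore_le_sylow T hu
      rwa [← hrange] at this
    rw [← map_pow] at hu2
    have hs2 : s ^ 2 = 1 := hηi (hu2.trans (map_one η).symm)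
    rcases eq_or_ne s 1 with rfl | hs1
    · exact Or.inl (map_one η)
    rcases D.qd.involution_cases hs2 hs1 with rfl | ⟨i, hi, rfl⟩
    · exact Or.inr rfl
    exfalso
    set P := Cfsg.pCore 2 (C ⧸ O') with hP
    haveI hPn : P.Normal := H1.pCore_normal' 2 _
    set q := H67.qdQ D.n with hq
    have hx2 : η (D.x ^ (2 : ℤ)) ∈ P := by
      have h1 : η (D.x ^ (2 - 2 * q)) ∈ P := by
        have h2 : η (D.x ^ (1 : ℤ) * (D.x ^ i * D.y) * (D.x ^ (1 : ℤ))⁻¹ *
            (D.x ^ i * D.y)⁻¹) ∈ P := by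
          simp only [map_mul, map_inv]
          exact mul_mem (hPn.conj_mem _ (by simpa using hu) _) (inv_mem (by simpa using hu))
        rw [D.qd.conj_x_y_form] at h2
        convert h2 using 2
        rw [hq]
        group
      obtain ⟨r, hr⟩ := D.qd.q_two_dvd
      have e1 : D.x ^ ((2 - 2 * q) * ((1 + q) * (1 + q * q))) = D.x ^ (2 : ℤ) :=
        D.qd.zpow_x_congr (-4 * r ^ 3) (by rw [hq, hr]; ring)
      rw [← e1, zpow_mul, map_zpow]
      exact zpow_mem h1 _
    have hev : ∀ j : ℤ, 2 ∣ j → η (D.x ^ j) ∈ P := by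
      rintro j ⟨c, rfl⟩
      rw [zpow_mul, map_zpow]
      exact zpow_mem hx2 _
    have hwy : ∀ j : ℤ, 2 ∣ j → η (D.x ^ j * D.y) ∈ P := by
      intro j hj
      rw [show D.x ^ j * D.y = D.x ^ (j - i) * (D.x ^ i * D.y) by rw [← mul_assoc, ← zpow_add, sub_add_cancel],
        map_mul]
      exact mul_mem (hev _ (dvd_sub hj hi)) hu
    have hxP : η D.x ∉ P := by
      intro hx
      refine hnotN ?_
      have : (T : Subgroup (C ⧸ O')) = P := by
        refine le_antisymm ?_ (H1.pCore_le_sylow T)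
        rw [← hrange]
        rintro _ ⟨s, rfl⟩
        rcases D.qd.cases s with ⟨j, rfl⟩ | ⟨j, rfl⟩
        · rw [map_zpow]; exact zpow_mem hx _
        · rw [show D.x ^ j * D.y = D.x ^ (j - i) * (D.x ^ i * D.y) by
            rw [← mul_assoc, ← zpow_add, sub_add_cancel], map_mul, map_zpow]
          exact mul_mem (zpow_mem hx _) hu
      rw [this]
      exact hPn
    have hxodd : ∀ j : ℤ, η (D.x ^ j) ∈ P → 2 ∣ j := by
      intro j hj
      by_contra h
      refine hxP ?_
      rw [show D.x = D.x ^ j * D.x ^ (1 - j) by rw [← zpow_add, add_sub_cancel, zpow_one], map_mul]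
      exact mul_mem hj (hev _ (by omega))
    -- the quotient of `K`
    haveI hK'n : (D.K.subgroupOf C).Normal :=
      (Subgroup.normal_subgroupOf_iff_le_normalizer D.K_le).mpr D.K_norm
    haveI hKbn : ((D.K.subgroupOf C).map f).Normal := hK'n.map f hfs
    set Kb := (D.K.subgroupOf C).map f with hKb
    have hKi : Kb.index = 2 := by
      rw [hKb, index_map_eq _ hfs]
      · exact D.K_index
      · intro g hg
        rw [MonoidHom.mem_ker, hf1] at hg
        exact mem_subgroupOf.2 (D.O_le_K hg)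
    have hKm : ∀ s : ↥(D.S : Subgroup G), η s ∈ Kb ↔ (s : G) ∈ D.K := by
      intro s
      constructor
      · rintro ⟨g, hg, hgs⟩
        rw [hηe] at hgs
        have h1 : f (g⁻¹ * ⟨s, D.S_le s.2⟩) = 1 := by
          rw [map_mul, map_inv, hgs, inv_mul_cancel]
        have h2 := mul_mem (mem_subgroupOf.1 hg) (D.O_le_K ((hf1 _).1 h1))
        simpa using h2
      · intro h
        exact ⟨⟨s, D.S_le s.2⟩, mem_subgroupOf.2 h, rfl⟩
    have hA : ∀ v ∈ P, v ∈ Kb → v ∈ zpowers (η (D.x ^ (2 : ℤ))) := by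
      intro v hv hvK
      obtain ⟨s, rfl⟩ : ∃ s, η s = v := by
        have := H1.pCore_le_sylow T hv
        rwa [← hrange] at this
      rcases D.qd.cases s with ⟨j, rfl⟩ | ⟨j, rfl⟩
      · obtain ⟨c, rfl⟩ := hxodd j hv
        exact ⟨c, by simp only; rw [← map_zpow, ← zpow_mul]⟩
      · exfalso
        have hodd : ¬ 2 ∣ j := (D.mem_K_y j).1 ((hKm _).1 hvK)
        refine hodd ?_
        have h1 : η (D.x ^ (j - i)) ∈ P := by
          rw [show D.x ^ (j - i) = (D.x ^ j * D.y) * (D.x ^ i * D.y)⁻¹ by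
            rw [zpow_sub]; group, map_mul, map_inv]
          exact mul_mem hv (inv_mem hu)
        have := hxodd _ h1
        omega
    refine hno2 (isPGroup_two_of_odd_central hCQ fun g hg => ?_)
    set a := η (D.x ^ (2 : ℤ)) with ha
    have haK : a ∈ Kb := (hKm _).2 ((D.mem_K_x 2).2 dvd_rfl)
    obtain ⟨j, hj⟩ := (H1.isPGroup_pCore 2 (C ⧸ O')) ⟨a, hx2⟩
    obtain ⟨m, -, hm⟩ := (Nat.dvd_prime_pow Nat.prime_two).mp
      (orderOf_dvd_of_pow_eq_one (show a ^ (2 ^ j) = 1 by simpa using congrArg Subtype.val hj))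
    have hga : Commute g a := H76.DihSyl.commute_of_conj_mem hm (Nat.coprime_two_right.2 hg)
      (hA _ (hPn.conj_mem a hx2 g) (hKbn.conj_mem a haK g))
    set w := η (D.x ^ i * D.y) with hw
    have hwK : w ∉ Kb := fun h => (D.mem_K_y i).1 ((hKm _).1 h) hi
    have hk : g * w * g⁻¹ * w⁻¹ ∈ zpowers a := by
      refine hA _ (mul_mem (hPn.conj_mem w hu g) (inv_mem hu)) ?_
      rw [mul_mem_iff_of_index_two hKi, inv_mem_iff]
      refine ⟨fun h => absurd ?_ hwK, fun h => absurd h hwK⟩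
      have h' := hKbn.conj_mem _ h g⁻¹
      simpa [mul_assoc] using h'
    obtain ⟨c, hc⟩ := mem_zpowers_iff.1 hk
    have hgk : Commute g (a ^ c) := hga.zpow_right c
    have hiter : ∀ r : ℕ, g ^ r * w * (g ^ r)⁻¹ = (a ^ c) ^ r * w := by
      intro r
      induction r with
      | zero => simp
      | succ r ih =>
        calc g ^ (r + 1) * w * (g ^ (r + 1))⁻¹ = g * (g ^ r * w * (g ^ r)⁻¹) * g⁻¹ := by
              rw [pow_succ']; group
          _ = g * (a ^ c) ^ r * g⁻¹ * (g * w * g⁻¹ * w⁻¹) * w := by rw [ih]; group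
          _ = (a ^ c) ^ (r + 1) * w := by
              rw [(hgk.pow_right r).eq, mul_inv_cancel_right, ← hc, ← pow_succ]
    have hc1 : a ^ c = 1 := by
      have h1 := hiter (orderOf g)
      rw [pow_orderOf_eq_one, one_mul, inv_one, mul_one, right_eq_mul] at h1
      refine pow_two_odd_eq_one (j := m) ?_ (hg.of_dvd_nat (orderOf_dvd_of_pow_eq_one h1))
      rw [← zpow_natCast, ← zpow_mul, mul_comm, zpow_mul, zpow_natCast, ← hm, pow_orderOf_eq_one,
        one_zpow]
    have hgw : Commute g w := by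
      rw [hc1] at hc
      exact mul_inv_eq_iff_eq_mul.1 (mul_inv_eq_one.1 hc.symm)
    intro v hv
    by_cases hvK : v ∈ Kb
    · obtain ⟨d, hd⟩ := mem_zpowers_iff.1 (hA v hv hvK)
      rw [← hd]
      exact (hga.zpow_right d).eq
    · obtain ⟨d, hd⟩ := mem_zpowers_iff.1 (hA (v * w⁻¹) (mul_mem hv (inv_mem hu))
        ((mul_mem_iff_of_index_two hKi).2 ⟨fun h => absurd h hvK, fun h => absurd (inv_mem_iff.1 h) hwK⟩))
      rw [show v = a ^ d * w by rw [hd]; group]
      exact ((hga.zpow_right d).mul_right hgw).eq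
  rcases H70.Octa.classify hcore hrank with ⟨P, hP⟩ | ⟨⟨ψ⟩⟩ | ⟨-, -, -, hQ⟩
  · exfalso
    haveI := Sylow.unique_of_normal P hP
    rw [Subsingleton.elim P T] at hP
    exact hnotN hP
  · refine ⟨ψ.toMonoidHom.comp f, ψ.surjective.comp hfs, fun g => ?_⟩
    rw [← hf1, MonoidHom.comp_apply, MulEquiv.coe_toMonoidHom, MulEquiv.map_eq_one_iff]
  · exfalso
    obtain ⟨φ⟩ := hQ T
    have h1 : ∀ s : ↥(D.S : Subgroup G), orderOf s = 2 → φ (e s) ≠ 1 ∧ φ (e s) * φ (e s) = 1 := by
      intro s hs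
      refine ⟨fun h => ?_, ?_⟩
      · rw [map_eq_one_iff _ φ.injective, map_eq_one_iff _ e.injective] at h
        rw [h, orderOf_one] at hs
        omega
      · have h2 : s ^ 2 = 1 := orderOf_dvd_iff_pow_eq_one.1 (dvd_of_eq hs)
        rw [← map_mul, ← map_mul, ← pow_two, h2, map_one, map_one]
    obtain ⟨a1, a2⟩ := h1 _ D.qd.orderOf_c
    obtain ⟨b1, b2⟩ := h1 _ D.qd.ordy
    exact D.qd.y_not_mem _ (e.injective (φ.injective (quat16_involution _ _ b1 b2 a1 a2)))

end H72.CSy
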