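import Cfsg.Agent.H70.CSy.Defs
import Cfsg.Agent.H72.CSy.Quot
import Cfsg.Agent.H72.CSy.Loc
import Cfsg.Agent.H70.CSy.SetupTools

/-!
Facts about `C(t) = (O × SL(2,3)).2` (for S4069).
-/

set_option autoImplicit false

open Cfsg Subgroup

namespace H72.CSy

universe u

variable {G : Type u} [Group G] [Finite G]

/-- the epimorphism onto `GL(2,3)` -/
structure Pi (D : H70.CSy.Setup G) where
  π : ↥(centralizer ({D.t} : Set G)) →* GL (Fin 2) (ZMod 3)
  surj : Function.Surjective π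
  ker : ∀ g, π g = 1 ↔ (g : G) ∈ D.O

variable {D : H70.CSy.Setup G}

theorem O_comm {o o' : G} (ho : o ∈ D.O) (ho' : o' ∈ D.O) : o * o' = o' * o := by
  haveI := D.O_cyc
  letI : CommGroup ↥D.O := IsCyclic.commGroup
  exact congrArg Subtype.val (mul_comm (⟨o, ho⟩ : ↥D.O) ⟨o', ho'⟩)

theorem y_not_mem : (D.y : G) ∉ D.K := by
  have := (D.mem_K_y 0).not.2 (by simp)
  simpa using this

variable (E : Pi D)

namespace Pi

include E

/-- the matrix of an element -/
def mm (g : ↥(centralizer ({D.t} : Set G))) : Matrix (Fin 2) (Fin 2) (ZMod 3) :=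
  ((E.π g : GL (Fin 2) (ZMod 3)) : Matrix (Fin 2) (Fin 2) (ZMod 3))

theorem mm_mul (g h : ↥(centralizer ({D.t} : Set G))) : E.mm (g * h) = E.mm g * E.mm h := by
  simp [mm, map_mul]

theorem mm_pow (g : ↥(centralizer ({D.t} : Set G))) (n : ℕ) : E.mm (g ^ n) = E.mm g ^ n := by
  simp [mm, map_pow]

theorem mm_eq_iff (g h : ↥(centralizer ({D.t} : Set G))) : E.mm g = E.mm h ↔ E.π g = E.π h :=
  ⟨fun e => Units.ext e, fun e => by simp [mm, e]⟩

theorem mm_eq_one (g : ↥(centralizer ({D.t} : Set G))) : E.mm g = 1 ↔ (g : G) ∈ D.O := by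
  rw [← E.ker, ← Units.val_eq_one]; rfl

theorem det_ne (g : ↥(centralizer ({D.t} : Set G))) : (E.mm g).det ≠ 0 := det_coe_ne _

theorem exists_mm {a : Matrix (Fin 2) (Fin 2) (ZMod 3)} (ha : a.det ≠ 0) :
    ∃ g, E.mm g = a := by
  obtain ⟨g, hg⟩ := E.surj (toGL a ha)
  exact ⟨g, by simp [mm, hg, coe_toGL]⟩

theorem ker_eq : E.π.ker = D.O.subgroupOf (centralizer ({D.t} : Set G)) := by
  ext g
  rw [MonoidHom.mem_ker, E.ker, mem_subgroupOf]

theorem card_ker : Nat.card E.π.ker = Nat.card D.O := by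
  rw [E.ker_eq, Nat.card_congr (subgroupOfEquivOfLe D.O_le).toEquiv]

/-- a subgroup containing the kernel -/
theorem card_of_map (M : Subgroup ↥(centralizer ({D.t} : Set G))) (hM : E.π.ker ≤ M) :
    Nat.card M = Nat.card D.O * Nat.card (M.map E.π) := by
  have h := relIndex_mul_relIndex ⊥ E.π.ker M bot_le hM
  rw [relIndex_bot_left, relIndex_bot_left, relIndex_ker, E.card_ker] at h
  exact h.symm

theorem card_ct : Nat.card (centralizer ({D.t} : Set G)) = 48 * Nat.card D.O := by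
  have h := E.card_of_map ⊤ le_top
  rw [card_top, map_top_of_surjective _ E.surj, card_top, card_GL23] at h
  rw [h, mul_comm]

theorem n_three : D.n = 3 := by
  have h1 : 2 ^ (D.n + 1) ∣ 48 * Nat.card D.O := by
    rw [← E.card_ct, ← D.qd.card_eq]
    exact card_dvd_of_le D.S_le
  have h2 : 2 ^ (D.n + 1) ∣ 48 :=
    (Nat.Coprime.pow_left _ (Nat.coprime_two_left.2 D.O_odd)).dvd_of_dvd_mul_right h1
  have h3 : D.n + 1 ≤ 4 := by
    have := (Nat.Prime.pow_dvd_iff_le_factorization Nat.prime_two (by norm_num : (48 : ℕ) ≠ 0)).1 h2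
    rwa [show (48 : ℕ) = 2 ^ 4 * 3 by norm_num, Nat.factorization_mul (by norm_num) (by norm_num),
      Finsupp.add_apply, Nat.factorization_eq_zero_of_not_dvd (by norm_num : ¬ 2 ∣ 3),
      Nat.Prime.factorization_pow Nat.prime_two, Finsupp.single_eq_same, add_zero] at this
  have := D.qd.three_le
  omega

theorem det_of_K (g : ↥(centralizer ({D.t} : Set G))) (hg : (g : G) ∈ D.K) :
    (E.mm g).det = 1 := by
  classical
  let δ : ↥D.K →* (ZMod 3)ˣ :=
    (Matrix.GeneralLinearGroup.det.comp E.π).comp (Subgroup.inclusion D.K_le)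
  have hker : δ.ker.index = 1 := by
    have hd : δ.ker.index ∣ 2 := by
      rw [index_ker]
      refine (card_subgroup_dvd_card _).trans (dvd_of_eq ?_)
      haveI : Fact (Nat.Prime 3) := ⟨Nat.prime_three⟩
      rw [Nat.card_eq_fintype_card, ZMod.card_units]
    rcases (Nat.dvd_prime Nat.prime_two).1 hd with h | h
    · exact h
    · exact absurd h (D.K_no_two _)
  have : δ ⟨(g : G), hg⟩ = 1 := MonoidHom.mem_ker.1 (by rw [index_eq_one.1 hker]; exact mem_top _)
  exact congrArg Units.val this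

theorem mem_K (g : ↥(centralizer ({D.t} : Set G))) : (g : G) ∈ D.K ↔ (E.mm g).det = 1 := by
  refine ⟨E.det_of_K g, fun hg => ?_⟩
  obtain ⟨a, ha⟩ := E.exists_mm (a := !![1, 0; 0, 2]) (by decide)
  have haK : (a : G) ∉ D.K := fun h => by
    have := E.det_of_K a h
    rw [ha] at this
    exact absurd this (by decide)
  by_contra h
  have hm : g * a ∈ D.K.subgroupOf (centralizer ({D.t} : Set G)) :=
    (mul_mem_iff_of_index_two D.K_index).2 ⟨fun h' => absurd h' h, fun h' => absurd h' haK⟩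
  have := E.det_of_K _ (mem_subgroupOf.1 hm)
  rw [E.mm_mul, Matrix.det_mul, hg, ha, one_mul] at this
  exact absurd this (by decide)

theorem card_K : Nat.card D.K = 24 * Nat.card D.O := by
  have h := (D.K.subgroupOf (centralizer ({D.t} : Set G))).card_mul_index
  rw [Nat.card_congr (subgroupOfEquivOfLe D.K_le).toEquiv, E.card_ct] at h
  have := D.K_index
  rw [relIndex] at this
  rw [this] at h
  omega

theorem orderOf_pi_odd {g : ↥(centralizer ({D.t} : Set G))} (hg : Odd (orderOf g)) :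
    E.mm g * E.mm g * E.mm g = 1 := by
  have h1 : orderOf (E.π g) ∣ 48 := card_GL23 ▸ orderOf_dvd_natCard _
  have h2 : orderOf (E.π g) ∣ orderOf g := orderOf_map_dvd _ g
  have h3 : orderOf (E.π g) ∣ 3 := by
    refine (Nat.Coprime.pow_right 4 ((hg.of_dvd_nat h2).coprime_two_right)).dvd_of_dvd_mul_left ?_
    simpa using h1
  have := orderOf_dvd_iff_pow_eq_one.1 h3
  rw [← map_pow, E.ker, ← E.mm_eq_one, E.mm_pow] at this
  rw [← this, pow_three, mul_assoc]

/-- `K` centralises `O` -/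
theorem K_cent {k : G} (hk : k ∈ D.K) {o : G} (ho : o ∈ D.O) : k * o = o * k := by
  haveI := D.O_cyc
  let ρ : ↥(centralizer ({D.t} : Set G)) →* MulAut ↥D.O :=
    D.O.normalizerMonoidHom.comp (Subgroup.inclusion D.O_norm)
  have hρ : ∀ (g : ↥(centralizer ({D.t} : Set G))) (v : ↥D.O),
      ((ρ g v : ↥D.O) : G) = (g : G) * v * (g : G)⁻¹ := fun g v => rfl
  have hρO : ∀ g : ↥(centralizer ({D.t} : Set G)), (g : G) ∈ D.O → ρ g = 1 := by
    intro g hg
    refine MulEquiv.ext fun v => Subtype.ext ?_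
    rw [hρ, MulAut.one_apply, O_comm hg v.2, mul_inv_cancel_right]
  obtain ⟨kc, hkc⟩ : ∃ kc : ↥(centralizer ({D.t} : Set G)), (kc : G) = k := ⟨⟨k, D.K_le hk⟩, rfl⟩
  suffices h : ρ kc = 1 by
    have := hρ kc ⟨o, ho⟩
    rw [h, MulAut.one_apply, hkc] at this
    exact mul_inv_eq_iff_eq_mul.1 this.symm
  obtain ⟨j, r, hr, hkr⟩ := Nat.exists_eq_two_pow_mul_odd (orderOf_pos kc).ne'
  have h1 : ρ (kc ^ 2 ^ j) = 1 := by
    set g := kc ^ 2 ^ j with hg
    have hgo : Odd (orderOf g) := by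
      refine hr.of_dvd_nat (orderOf_dvd_of_pow_eq_one ?_)
      rw [hg, ← pow_mul, ← hkr, pow_orderOf_eq_one]
    by_cases hgO : (g : G) ∈ D.O
    · exact hρO g hgO
    have h3 := E.orderOf_pi_odd hgo
    have hne : E.mm g ≠ 1 := fun h => hgO ((E.mm_eq_one g).1 h)
    obtain ⟨am, ham, hinv⟩ := m_three_inv _ h3 hne
    obtain ⟨a, rfl⟩ := E.exists_mm ham
    have hO : ((g * a * g * a⁻¹ : ↥(centralizer ({D.t} : Set G))) : G) ∈ D.O := by
      rw [← E.mm_eq_one, E.mm_mul, E.mm_mul, E.mm_mul, hinv, ← E.mm_mul, mul_inv_cancel]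
      simp [mm]
    have h4 := hρO _ hO
    rw [map_mul, map_mul, map_mul, map_inv, H70.CSy.commute_mulAut_of_cyclic ↥D.O (ρ g) (ρ a),
      mul_assoc (ρ a), ← map_mul, ← map_inv, H70.CSy.commute_mulAut_of_cyclic ↥D.O (ρ a) (ρ (g * g)),
      map_inv, mul_inv_cancel_right, map_mul] at h4
    refine pow_two_odd_eq_one (j := 1) ?_ (hgo.of_dvd_nat (orderOf_map_dvd _ g))
    rw [pow_one, pow_two, h4]
  have h2 : ρ (kc ^ r) = 1 := by
    refine MulEquiv.ext fun v => Subtype.ext ?_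
    have h := D.two_comm ((kc ^ r : ↥(centralizer ({D.t} : Set G))) : G) ?_ ?_ v v.2
    · rw [hρ, MulAut.one_apply, h, mul_inv_cancel_right]
    · rw [SubmonoidClass.coe_pow, hkc]; exact pow_mem hk r
    · have h5 : orderOf (kc ^ r) ∣ 2 ^ j := by
        refine orderOf_dvd_of_pow_eq_one ?_
        rw [← pow_mul, mul_comm, ← hkr, pow_orderOf_eq_one]
      obtain ⟨i, -, hi⟩ := (Nat.dvd_prime_pow Nat.prime_two).1 h5
      exact ⟨i, by rw [Subgroup.orderOf_coe, hi]⟩
  rw [map_pow] at h1 h2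
  have h := pow_gcd_eq_one.2 ⟨h1, h2⟩
  rwa [Nat.Coprime.gcd_eq_one (Nat.Coprime.pow_left j (Nat.coprime_two_left.2 hr)), pow_one] at h

/-- elements outside `K` invert `O` -/
theorem out_inv {g : G} (hg : g ∈ centralizer ({D.t} : Set G)) (hgK : g ∉ D.K) {o : G}
    (ho : o ∈ D.O) : g * o * g⁻¹ = o⁻¹ := by
  have hyK : (D.y : G) ∉ D.K := by
    have := (D.mem_K_y 0).not.2 (by simp)
    simpa using this
  have hm : (⟨g, hg⟩ : ↥(centralizer ({D.t} : Set G))) * ⟨(D.y : G), D.S_le D.y.2⟩⁻¹ ∈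
      D.K.subgroupOf (centralizer ({D.t} : Set G)) := by
    refine (mul_mem_iff_of_index_two D.K_index).2 ⟨fun h => absurd h hgK, fun h => ?_⟩
    exact absurd (inv_mem_iff.1 h) hyK
  have hm' : g * (D.y : G)⁻¹ ∈ D.K := hm
  have hk := E.K_cent hm' (inv_mem ho)
  calc g * o * g⁻¹ = g * (D.y : G)⁻¹ * ((D.y : G) * o * (D.y : G)⁻¹) * (g * (D.y : G)⁻¹)⁻¹ := by group
    _ = g * (D.y : G)⁻¹ * o⁻¹ * (g * (D.y : G)⁻¹)⁻¹ := by rw [D.y_inv o ho]
    _ = o⁻¹ := by rw [hk, mul_inv_cancel_right]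

theorem cent_C_o {o : G} (ho : o ∈ D.O) (ho1 : o ≠ 1) {g : G}
    (hg : g ∈ centralizer ({D.t} : Set G)) (hgo : g * o = o * g) : g ∈ D.K := by
  by_contra h
  have h1 := E.out_inv hg h ho
  rw [hgo, mul_inv_cancel_right, eq_inv_iff_mul_eq_one, ← pow_two] at h1
  exact ho1 (pow_two_odd_eq_one (j := 1) h1
    (D.O_odd.of_dvd_nat (Subgroup.orderOf_dvd_natCard _ ho)))

theorem prime_dvd {q : ℕ} (hq : q.Prime) (hq2 : q ≠ 2)
    (h : q ∣ Nat.card (centralizer ({D.t} : Set G))) :
    q = 3 ∨ q ∣ Nat.card D.O := by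
  rw [E.card_ct, show 48 * Nat.card D.O = 2 ^ 4 * 3 * Nat.card D.O by ring] at h
  rcases hq.dvd_mul.1 h with h | h
  · rcases hq.dvd_mul.1 h with h | h
    · exact absurd ((Nat.prime_dvd_prime_iff_eq hq Nat.prime_two).1 (hq.dvd_of_dvd_pow h)) hq2
    · exact Or.inl ((Nat.prime_dvd_prime_iff_eq hq Nat.prime_three).1 h)
  · exact Or.inr h

theorem cent_o {o : G} (ho : o ∈ D.O) (ho1 : o ≠ 1) : centralizer ({o} : Set G) = D.K := by
  refine le_antisymm ?_ fun k hk => mem_centralizer_singleton_iff.2 (E.K_cent hk ho)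
  have htH : D.t ∈ centralizer ({o} : Set G) :=
    mem_centralizer_singleton_iff.2 (E.K_cent D.t_mem_K ho)
  have hle : centralizer ({o} : Set G) ≤ centralizer ({D.t} : Set G) := by
    refine le_cent D.hyp.odd D.t_ord D.one (s := (D.y : G))
      ((Subgroup.orderOf_coe _).trans D.qd.ordy)
      (mem_centralizer_singleton_iff.1 (D.S_le D.y.2)) (fun h => y_not_mem (D := D) (by rw [h]; exact D.t_mem_K))
      htH ?_ ?_ ?_
    · refine mem_normalizer_fintype fun w hw => mem_centralizer_singleton_iff.2 ?_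
      have hc : Commute w o := mem_centralizer_singleton_iff.1 hw
      have hy : (D.y : G)⁻¹ * o * (D.y : G) = o⁻¹ := by
        calc (D.y : G)⁻¹ * o * (D.y : G)
            = (D.y : G)⁻¹ * ((D.y : G) * o⁻¹ * (D.y : G)⁻¹) * (D.y : G) := by
              rw [D.y_inv _ (inv_mem ho), inv_inv]
          _ = o⁻¹ := by group
      calc (D.y : G) * w * (D.y : G)⁻¹ * o
          = (D.y : G) * (w * ((D.y : G)⁻¹ * o * (D.y : G))) * (D.y : G)⁻¹ := by group
        _ = (D.y : G) * (w * o⁻¹) * (D.y : G)⁻¹ := by rw [hy]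
        _ = (D.y : G) * (o⁻¹ * w) * (D.y : G)⁻¹ := by rw [hc.inv_right.eq]
        _ = (D.y : G) * o⁻¹ * (D.y : G)⁻¹ * ((D.y : G) * w * (D.y : G)⁻¹) := by group
        _ = o * ((D.y : G) * w * (D.y : G)⁻¹) := by rw [D.y_inv _ (inv_mem ho), inv_inv]
    · intro i hi hi2 hit
      exact D.K_unique i (E.cent_C_o ho ho1 (mem_centralizer_singleton_iff.2 hit)
        (mem_centralizer_singleton_iff.1 hi)) hi2
    · intro q hq hq2 _ hqC
      haveI := Fact.mk hq
      have hqK : q ∣ Nat.card D.K := by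
        rw [E.card_K]
        rcases E.prime_dvd hq hq2 hqC with rfl | h
        · exact dvd_mul_of_dvd_left (by norm_num) _
        · exact dvd_mul_of_dvd_right h _
      obtain ⟨⟨z, hzK⟩, hz⟩ := exists_prime_orderOf_dvd_card' q hqK
      rw [Subgroup.orderOf_mk] at hz
      exact ⟨z, mem_centralizer_singleton_iff.2 (E.K_cent hzK ho),
        (mem_centralizer_singleton_iff.1 (D.K_le hzK)).symm, hz⟩
  exact fun g hg => E.cent_C_o ho ho1 (hle hg) (mem_centralizer_singleton_iff.1 hg)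

theorem exists_t_mm : E.mm ⟨D.t, D.K_le D.t_mem_K⟩ ≠ 1 := by
  intro h
  have htO := (E.mm_eq_one _).1 h
  have := D.O_odd.of_dvd_nat (Subgroup.orderOf_dvd_natCard _ htO)
  rw [D.t_ord] at this
  exact absurd this (by decide)

theorem card_cent_h {h : ↥(centralizer ({D.t} : Set G))} (hK : (h : G) ∈ D.K)
    (ho : Odd (orderOf h)) (hO : (h : G) ∉ D.O) :
    Nat.card ((centralizer ({(h : G)} : Set G)).subgroupOf (centralizer ({D.t} : Set G))) =
      6 * Nat.card D.O := by
  classical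
  set M := (centralizer ({(h : G)} : Set G)).subgroupOf (centralizer ({D.t} : Set G)) with hM
  have h3 := E.orderOf_pi_odd ho
  have hne : E.mm h ≠ 1 := fun e => hO ((E.mm_eq_one h).1 e)
  have hker : E.π.ker ≤ M := by
    intro g hg
    rw [MonoidHom.mem_ker, E.ker] at hg
    exact mem_subgroupOf.2 (mem_centralizer_singleton_iff.2 (E.K_cent hK hg).symm)
  have hle : Nat.card (M.map E.π) ≤ 6 := by
    rw [← m_three_cent_card _ h3 hne, ← card_filter (fun a => a * E.mm h = E.mm h * a)]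
    refine Nat.card_le_card_of_injective (fun v => ⟨(v : GL (Fin 2) (ZMod 3)), ?_⟩) ?_
    · obtain ⟨g, hg, hgv⟩ := mem_map.1 v.2
      rw [← hgv]
      have hgh : g * h = h * g :=
        Subtype.ext (mem_centralizer_singleton_iff.1 (mem_subgroupOf.1 hg))
      have := congrArg E.mm hgh
      rw [E.mm_mul, E.mm_mul] at this
      exact this
    · intro v w hvw
      exact Subtype.ext (congrArg Subtype.val hvw :)
  have h2 : 2 ∣ Nat.card (M.map E.π) := by
    have ht : E.π ⟨D.t, D.K_le D.t_mem_K⟩ ∈ M.map E.π := mem_map_of_mem _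
      (mem_subgroupOf.2 (mem_centralizer_singleton_iff.2
        (mem_centralizer_singleton_iff.1 h.2).symm))
    have ho2 : orderOf (E.π ⟨D.t, D.K_le D.t_mem_K⟩) = 2 := by
      refine orderOf_eq_prime ?_ fun e => E.exists_t_mm (by simp [mm, e])
      rw [← map_pow, show (⟨D.t, D.K_le D.t_mem_K⟩ : ↥(centralizer ({D.t} : Set G))) ^ 2 = 1 from
        Subtype.ext (orderOf_dvd_iff_pow_eq_one.1 (dvd_of_eq D.t_ord)), map_one]
    exact (dvd_of_eq ho2.symm).trans (Subgroup.orderOf_dvd_natCard _ ht)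
  have h3' : 3 ∣ Nat.card (M.map E.π) := by
    have hh : E.π h ∈ M.map E.π :=
      mem_map_of_mem _ (mem_subgroupOf.2 (mem_centralizer_singleton_iff.2 rfl))
    have ho3 : orderOf (E.π h) = 3 := by
      haveI : Fact (Nat.Prime 3) := ⟨Nat.prime_three⟩
      refine orderOf_eq_prime ?_ fun e => hne (by simp [mm, e])
      rw [← map_pow, E.ker, ← E.mm_eq_one, E.mm_pow, pow_three, ← mul_assoc, h3]
    exact (dvd_of_eq ho3.symm).trans (Subgroup.orderOf_dvd_natCard _ hh)
  have h6 : Nat.card (M.map E.π) = 6 :=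
    le_antisymm hle (Nat.le_of_dvd Nat.card_pos
      (Nat.Coprime.mul_dvd_of_dvd_of_dvd (by norm_num : Nat.Coprime 2 3) h2 h3'))
  rw [E.card_of_map M hker, h6, mul_comm]

theorem cent_h {h : G} (hK : h ∈ D.K) (ho : Odd (orderOf h)) (hO : h ∉ D.O) :
    centralizer ({h} : Set G) ≤ centralizer ({D.t} : Set G) ∧
      Nat.card (centralizer ({h} : Set G)) = 6 * Nat.card D.O := by
  classical
  obtain ⟨hc, rfl⟩ : ∃ hc : ↥(centralizer ({D.t} : Set G)), (hc : G) = h := ⟨⟨h, D.K_le hK⟩, rfl⟩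
  rw [Subgroup.orderOf_coe] at ho
  suffices hle : centralizer ({(hc : G)} : Set G) ≤ centralizer ({D.t} : Set G) by
    refine ⟨hle, ?_⟩
    rw [← E.card_cent_h hK ho hO, Nat.card_congr (subgroupOfEquivOfLe hle).toEquiv]
  have h3 := E.orderOf_pi_odd ho
  have hne : E.mm hc ≠ 1 := fun e => hO ((E.mm_eq_one hc).1 e)
  have hcube : ((hc ^ 3 : ↥(centralizer ({D.t} : Set G))) : G) ∈ D.O := by
    rw [← E.mm_eq_one, E.mm_pow, pow_three, ← mul_assoc, h3]
  by_cases h1 : (hc : G) ^ 3 = 1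
  swap
  · intro g hg
    have hgo : g ∈ centralizer ({(hc : G) ^ 3} : Set G) := mem_centralizer_singleton_iff.2
      ((show Commute g (hc : G) from mem_centralizer_singleton_iff.1 hg).pow_right 3).eq
    rw [E.cent_o (by simpa using hcube) h1] at hgo
    exact D.K_le hgo
  obtain ⟨am, ham, hinv⟩ := m_three_inv _ h3 hne
  obtain ⟨a, rfl⟩ := E.exists_mm ham
  obtain ⟨hdet, hsq⟩ := m_three_inv_det _ h3 hne _ ham hinv
  have haK : (a : G) ∉ D.K := fun h' => by
    rw [E.det_of_K a h'] at hdet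
    exact absurd hdet (by decide)
  have haa : (a : G) * (a : G) ∈ D.O := by
    have := (E.mm_eq_one (a * a)).1 (by rw [E.mm_mul, hsq])
    simpa using this
  have haa1 : (a : G) * (a : G) = 1 := by
    have e := E.out_inv a.2 haK haa
    rw [← mul_assoc, mul_inv_cancel_right, eq_inv_iff_mul_eq_one, ← pow_two] at e
    exact pow_two_odd_eq_one (j := 1) e (D.O_odd.of_dvd_nat (Subgroup.orderOf_dvd_natCard _ haa))
  have ha2 : orderOf (a : G) = 2 := by
    refine orderOf_eq_prime (by rw [pow_two, haa1]) fun e => haK ?_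
    rw [e]; exact one_mem _
  set o := (hc : G) * (a : G) * (hc : G) * (a : G)⁻¹ with hodef
  have hoO : o ∈ D.O := by
    have := (E.mm_eq_one (hc * a * hc * a⁻¹)).1 (by
      rw [E.mm_mul, E.mm_mul, E.mm_mul, hinv, ← E.mm_mul, mul_inv_cancel]; simp [mm])
    simpa using this
  have hcommo : Commute (hc : G) o := E.K_cent hK hoO
  have ho3 : o ^ 3 = 1 := by
    have e1 : (a : G) * (hc : G) * (a : G)⁻¹ = (hc : G)⁻¹ * o := by rw [hodef]; group
    have e2 : ((a : G) * (hc : G) * (a : G)⁻¹) ^ 3 = ((hc : G)⁻¹ * o) ^ 3 := by rw [e1]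
    rw [conj_pow, h1, mul_one, mul_inv_cancel, hcommo.inv_left.mul_pow, inv_pow, h1, inv_one,
      one_mul] at e2
    exact e2.symm
  have ho1 : o = 1 := by
    by_contra hne1
    refine hO ?_
    haveI : Fact (Nat.Prime 3) := ⟨Nat.prime_three⟩
    set A := zpowers o ⊔ zpowers (hc : G) with hA
    have hA3 : ∀ v ∈ A, v ^ 3 = 1 ∧ Commute v o ∧ Commute v (hc : G) := by
      intro v hv
      rw [hA, zpowers_eq_closure, zpowers_eq_closure, ← Subgroup.closure_union] at hv
      induction hv using Subgroup.closure_induction with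
      | mem v hv =>
        rcases hv with rfl | rfl
        · exact ⟨ho3, Commute.refl _, hcommo.symm⟩
        · exact ⟨h1, hcommo, Commute.refl _⟩
      | one => exact ⟨one_pow 3, Commute.one_left _, Commute.one_left _⟩
      | mul v w hv' hw' hv hw =>
        refine ⟨?_, hv.2.1.mul_left hw.2.1, hv.2.2.mul_left hw.2.2⟩
        have hvw : Commute v w := by
          refine (Subgroup.closure_le (centralizer ({v} : Set G))).2 ?_ hw' |>
            mem_centralizer_singleton_iff.1 |> Eq.symm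
          rintro x (rfl | rfl)
          · exact mem_centralizer_singleton_iff.2 hv.2.1.symm.eq
          · exact mem_centralizer_singleton_iff.2 hv.2.2.symm.eq
        rw [hvw.mul_pow, hv.1, hw.1, one_mul]
      | inv v hv' hv => exact ⟨by rw [inv_pow, hv.1, inv_one], hv.2.1.inv_left, hv.2.2.inv_left⟩
    have hAp : IsPGroup 3 A := fun v => ⟨1, Subtype.ext (by simpa using (hA3 v v.2).1)⟩
    haveI := H70.CSy.isCyclic_of_odd_pGroup D.hyp.odd (by norm_num : (3 : ℕ) ≠ 2) hAp
    have hoA : o ∈ A := mem_sup_left (mem_zpowers _)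
    have hhA : (hc : G) ∈ A := mem_sup_right (mem_zpowers _)
    have hne' : (hc : G) ≠ 1 := fun e => hO (e ▸ one_mem _)
    have heq := H70.CSy.cyclic_eq_of_card (zpowers (⟨(hc : G), hhA⟩ : A)) (zpowers (⟨o, hoA⟩ : A))
      (by rw [Nat.card_zpowers, Nat.card_zpowers, Subgroup.orderOf_mk, Subgroup.orderOf_mk,
        orderOf_eq_prime h1 hne', orderOf_eq_prime ho3 hne1])
    obtain ⟨c, hc'⟩ := mem_zpowers_iff.1 (heq.le (mem_zpowers _))
    have : o ^ c = (hc : G) := by simpa using congrArg Subtype.val hc'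
    rw [← this]
    exact zpow_mem hoO c
  refine le_cent D.hyp.odd D.t_ord D.one (s := (a : G)) ha2
    (mem_centralizer_singleton_iff.1 a.2) (fun e => haK (by rw [e]; exact D.t_mem_K))
    (mem_centralizer_singleton_iff.2 (mem_centralizer_singleton_iff.1 hc.2).symm) ?_ ?_ ?_
  · have hah : (a : G)⁻¹ * (hc : G) * (a : G) = (hc : G)⁻¹ := by
      have e1 : (a : G) * (hc : G) * (a : G)⁻¹ = (hc : G)⁻¹ * o := by rw [hodef]; group
      rw [ho1, mul_one] at e1
      rw [inv_eq_of_mul_eq_one_right haa1]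
      rwa [inv_eq_of_mul_eq_one_right haa1] at e1
    refine mem_normalizer_fintype fun w hw => mem_centralizer_singleton_iff.2 ?_
    have hc2 : Commute w (hc : G) := mem_centralizer_singleton_iff.1 hw
    calc (a : G) * w * (a : G)⁻¹ * (hc : G)
        = (a : G) * (w * ((a : G)⁻¹ * (hc : G) * (a : G))) * (a : G)⁻¹ := by group
      _ = (a : G) * (((a : G)⁻¹ * (hc : G) * (a : G)) * w) * (a : G)⁻¹ := by
          rw [hah, hc2.inv_right.eq]
      _ = (hc : G) * ((a : G) * w * (a : G)⁻¹) := by group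
  · intro i hi hi2 hit
    refine D.K_unique i ?_ hi2
    set ic : ↥(centralizer ({D.t} : Set G)) := ⟨i, mem_centralizer_singleton_iff.2 hit⟩ with hic
    rw [show i = (ic : G) from rfl, E.mem_K]
    refine m_three_cent_det _ h3 hne _ (E.det_ne ic) ?_
    rw [← E.mm_mul, ← E.mm_mul, show ic * hc = hc * ic from
      Subtype.ext (mem_centralizer_singleton_iff.1 hi)]
  · intro q hq hq2 _ hqC
    haveI := Fact.mk hq
    rcases E.prime_dvd hq hq2 hqC with rfl | h
    · exact ⟨(hc : G), mem_centralizer_singleton_iff.2 rfl,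
        (mem_centralizer_singleton_iff.1 hc.2).symm,
        orderOf_eq_prime h1 (fun e => hO (e ▸ one_mem _))⟩
    · obtain ⟨⟨z, hzO⟩, hz⟩ := exists_prime_orderOf_dvd_card' q h
      rw [Subgroup.orderOf_mk] at hz
      exact ⟨z, mem_centralizer_singleton_iff.2 (E.K_cent hK hzO).symm,
        (mem_centralizer_singleton_iff.1 (D.O_le hzO)).symm, hz⟩

end Pi

end H72.CSy
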